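import Groth.Agent.CurveSimple.GlobGen
import Groth.Agent.DecCurve.TorFree
import Groth.Agent.DecCurve.Sections
import Groth.Agent.AssSch.Quot

/-!
# Reduced curves: maps compared at the generic points
-/

universe u

open CategoryTheory CategoryTheory.Limits AlgebraicGeometry TopologicalSpace
open Groth.Agent.Props.GenLocus Groth.Agent.PullStalk.Sky Groth.Agent.PullStalk.Exact

set_option linter.style.haveILetI false
set_option linter.unusedSectionVars false
set_option synthInstance.maxHeartbeats 200000
set_option maxHeartbeats 1000000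

noncomputable section

namespace Groth.Agent.CurveRed

variable {X : Scheme.{u}}

/-- A point with field local ring is maximal for generalization. -/
theorem eq_of_specializes_field {η y : X} (hη : IsField (X.presheaf.stalk η)) (h : y ⤳ η) : y = η := by
  obtain ⟨p, hp⟩ : y ∈ Set.range (X.fromSpecStalk η) := by
    rw [Scheme.range_fromSpecStalk]; exact h
  letI := hη.toField
  haveI : Subsingleton (PrimeSpectrum (X.presheaf.stalk η)) := inferInstance
  rw [← hp, show p = IsLocalRing.closedPoint (X.presheaf.stalk η) from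
    @Subsingleton.elim (PrimeSpectrum (X.presheaf.stalk η)) _ _ _]
  exact Scheme.fromSpecStalk_closedPoint

/-- A point of a reduced scheme with no proper generalization has field local ring. -/
theorem isField_of_maximal [AlgebraicGeometry.IsReduced X] {η : X} (h : ∀ y, y ⤳ η → y = η) :
    IsField (X.presheaf.stalk η) := by
  haveI : _root_.IsReduced (X.presheaf.stalk η) := inferInstance
  haveI : Ring.KrullDimLE 0 (X.presheaf.stalk η) := Ring.KrullDimLE.mk₀ fun q hq => by
    let p : PrimeSpectrum (X.presheaf.stalk η) := ⟨q, hq⟩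
    have h1 : (X.fromSpecStalk η) p = η := h _ (by
      have := Set.mem_range_self (f := X.fromSpecStalk η) p
      rw [Scheme.range_fromSpecStalk] at this
      exact this)
    have h2 : p = IsLocalRing.closedPoint (X.presheaf.stalk η) :=
      (X.fromSpecStalk η).isEmbedding.injective (h1.trans Scheme.fromSpecStalk_closedPoint.symm)
    have h3 : q = IsLocalRing.maximalIdeal (X.presheaf.stalk η) := congrArg PrimeSpectrum.asIdeal h2
    rw [h3]; exact IsLocalRing.maximalIdeal.isMaximal _
  exact Ring.KrullDimLE.isField_of_isReduced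

/-- Nonclosed points of a reduced scheme of dimension at most one have field local rings. -/
theorem isField_of_not_closed [AlgebraicGeometry.IsReduced X] (hdim : topologicalKrullDim X ≤ 1) {y : X}
    (hy : ¬ IsClosed ({y} : Set X)) : IsField (X.presheaf.stalk y) := by
  refine isField_of_maximal fun z hz => ?_
  by_contra hne
  obtain ⟨w, hw, hwy⟩ : ∃ w ∈ closure ({y} : Set X), w ≠ y := by
    by_contra h
    push Not at h
    exact hy (subset_antisymm h subset_closure ▸ isClosed_closure)
  let c : X → IrreducibleCloseds X := fun z =>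
    ⟨closure {z}, isIrreducible_singleton.closure, isClosed_closure⟩
  have hlt : ∀ {a b : X}, b ⤳ a → a ≠ b → c a < c b := by
    intro a b hab hn
    refine lt_of_le_of_ne (show closure {a} ⊆ closure {b} from hab.closure_subset) fun h => hn ?_
    exact (inseparable_iff_closure_eq.2 (congrArg (fun s : IrreducibleCloseds X => (s : Set X)) h)).eq
  let ser : LTSeries (IrreducibleCloseds X) :=
    LTSeries.mk 2 ![c w, c y, c z] (Fin.strictMono_iff_lt_succ.2 fun i => by
      fin_cases i
      · exact hlt (specializes_iff_mem_closure.2 hw) hwy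
      · exact hlt hz fun e => hne e.symm)
  have h2 := (Order.LTSeries.length_le_krullDim ser).trans hdim
  change ((2 : ℕ) : WithBot ℕ∞) ≤ 1 at h2
  norm_num at h2

section coh

variable (k : Type u) [Field k] [X.Over (Spec (CommRingCat.of k))]
  [IsProper (X ↘ Spec (CommRingCat.of k))] [AlgebraicGeometry.IsReduced X]
  (hdim : topologicalKrullDim X ≤ 1)

include hdim in
omit [X.Over (Spec (CommRingCat.of k))] [IsProper (X ↘ Spec (CommRingCat.of k))] [Field k] in
theorem dim_support_le_zero {C : X.Modules} (hC : Coh.IsCoh C)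
    (h : ∀ η, IsField (X.presheaf.stalk η) → η ∉ CohB1.support C) :
    topologicalKrullDim ↥(CohB1.support C) ≤ 0 :=
  DecCurve.dim_le_zero_of_closed_points (CohDev.isClosed_support hC) fun y hy => by
    by_contra hc
    exact h y (isField_of_not_closed hdim hc) hy

include k hdim in
theorem subsingleton_HH_two (M : X.Modules) : Subsingleton (Coh.HH X M 2) :=
  haveI := EulerChar.isNoetherian k (X := X)
  haveI : NoetherianSpace X.toTopCat := inferInstanceAs (NoetherianSpace X)
  CohTop.Vanishing.grothendieck_vanishing (X := X.toTopCat) 1 hdim (Coh.toAb M) 2 one_lt_two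

include k hdim in
/-- A map surjective at the generic points is surjective on `H¹`. -/
theorem surjective_h1 {A B : X.Modules} (f : A ⟶ B) (hA : Coh.IsCoh A) (hB : Coh.IsCoh B)
    (hf : ∀ η, IsField (X.presheaf.stalk η) → Function.Surjective (stalkLin f η)) :
    Function.Surjective (CohLin.hMap f 1) := by
  haveI := EulerChar.isNoetherian k (X := X)
  have hCc := CohDev.isCoh_cokernel f hA.1 hB
  have hCd := dim_support_le_zero hdim hCc fun η hη => CohDev.not_mem_support_cokernel f (hf η hη)
  let S₁ := ShortComplex.mk (kernel.ι f) (Abelian.factorThruImage f)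
    ((cancel_mono (Abelian.image.ι f)).mp (by simp))
  have hS₁ : S₁.ShortExact := by
    refine { exact := ShortComplex.exact_of_f_is_kernel _ ?_ }
    refine KernelFork.IsLimit.ofι' _ _ fun {C} a ha => ⟨kernel.lift f a ?_, kernel.lift_ι _ _ _⟩
    rw [← Abelian.image.fac f, ← Category.assoc]
    exact (congrArg (· ≫ Abelian.image.ι f) ha).trans zero_comp
  have hS₂ : (ShortComplex.mk (Abelian.image.ι f) (cokernel.π f) (kernel.condition _)).ShortExact :=
    ShortComplex.ShortExact.mk' (ShortComplex.exact_kernel (cokernel.π f))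
      (inferInstanceAs (Mono (kernel.ι (cokernel.π f)))) (inferInstanceAs (Epi (cokernel.π f)))
  haveI : Subsingleton (Coh.HH X (cokernel f) 1) := EulerChar.subsingleton_HH_of_support k hCc hCd 0
  haveI : Subsingleton (Coh.HH X (kernel f) 2) := subsingleton_HH_two k hdim _
  intro y
  obtain ⟨z, hz⟩ := CohLin.exists_hMap_f_eq hS₂ y (Subsingleton.elim _ _)
  obtain ⟨x, hx⟩ := CohLin.exists_hMap_g_eq hS₁ z (Subsingleton.elim _ _)
  refine ⟨x, ?_⟩
  rw [← Abelian.image.fac f, CohLin.hMap_comp]
  exact (congrArg _ hx).trans hz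

/-- The range of `H¹` of a map. -/
abbrev rng {A B : X.Modules} (f : A ⟶ B) : Submodule k (Coh.HH X B 1) :=
  LinearMap.range (CohLin.overLin k (CohLin.hMap f 1))

include hdim in
/-- The range on `H¹` is governed by the ranges at the generic points. -/
theorem rng_le {A A' G : X.Modules} (f : A ⟶ G) (f' : A' ⟶ G) (hA : Coh.IsCoh A) (hA' : Coh.IsCoh A')
    (hG : Coh.IsCoh G)
    (h : ∀ η, IsField (X.presheaf.stalk η) →
      ∀ a, ∃ b, stalkLin f η b = stalkLin f' η a) :
    rng k f' ≤ rng k f := by
  haveI := EulerChar.isNoetherian k (X := X)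
  have hC : Coh.IsQCoh (cokernel f) := (CohDev.isCoh_cokernel f hA.1 hG).1
  let φ := f' ≫ cokernel.π f
  have hI : Coh.IsCoh (Abelian.image f) := CohDev.isCoh_image f hA hG.1
  have hK : Coh.IsCoh (kernel φ) := CohDev.isCoh_kernel φ hA' hC
  let T := ShortComplex.mk (kernel.ι φ) (Abelian.factorThruImage φ)
    ((cancel_mono (Abelian.image.ι φ)).mp (by simp))
  have hT : T.ShortExact := by
    refine { exact := ShortComplex.exact_of_f_is_kernel _ ?_ }
    refine KernelFork.IsLimit.ofι' _ _ fun {C} a ha => ⟨kernel.lift φ a ?_, kernel.lift_ι _ _ _⟩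
    rw [← Abelian.image.fac φ, ← Category.assoc]
    exact (congrArg (· ≫ Abelian.image.ι φ) ha).trans zero_comp
  have hsur : ∀ η, IsField (X.presheaf.stalk η) → Function.Surjective (stalkLin (kernel.ι φ) η) := by
    intro η hη a
    obtain ⟨b, hb⟩ := h η hη a
    refine ((stalk_exact hT η).2.1 a).1 (CohDev.stalk_injective (Abelian.image.ι φ) η ?_)
    rw [map_zero, ← CohDev.stalkLin_comp_apply, Abelian.image.fac, CohDev.stalkLin_comp_apply, ← hb,
      ← CohDev.stalkLin_comp_apply, cokernel.condition]
    obtain ⟨W, hW, m, rfl⟩ := exists_germM_eq A η b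
    rw [stalkLin_germ]
    exact map_zero (((cokernel f).presheaf.germ W η hW).hom)
  let l : kernel φ ⟶ Abelian.image f := kernel.lift (cokernel.π f) (kernel.ι φ ≫ f')
    (by rw [Category.assoc]; exact kernel.condition φ)
  rintro _ ⟨x, rfl⟩
  obtain ⟨z, rfl⟩ := surjective_h1 k hdim (kernel.ι φ) hK hA' hsur x
  obtain ⟨w, hw⟩ := surjective_h1 k hdim (Abelian.factorThruImage f) hA hI
    (fun η _ => stalk_surjective (Abelian.factorThruImage f) η) (CohLin.hMap l 1 z)
  refine ⟨w, ?_⟩
  show CohLin.hMap f 1 w = CohLin.hMap f' 1 (CohLin.hMap (kernel.ι φ) 1 z)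
  have e : l ≫ Abelian.image.ι f = kernel.ι φ ≫ f' := kernel.lift_ι _ _ _
  refine (congrArg (fun ψ => CohLin.hMap ψ 1 w) (Abelian.image.fac f).symm).trans ?_
  rw [CohLin.hMap_comp, hw, ← CohLin.hMap_comp, e, CohLin.hMap_comp]

include hdim in
/-- The range on `H¹` of a map jointly covered by two others at the generic points. -/
theorem rng_le_sup {A₁ A₂ A' G : X.Modules} (f₁ : A₁ ⟶ G) (f₂ : A₂ ⟶ G) (f' : A' ⟶ G)
    (h₁ : Coh.IsCoh A₁) (h₂ : Coh.IsCoh A₂) (hA' : Coh.IsCoh A') (hG : Coh.IsCoh G)
    (h : ∀ η, IsField (X.presheaf.stalk η) →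
      (∀ a, ∃ b, stalkLin f₁ η b = stalkLin f' η a) ∨ (∀ a, ∃ b, stalkLin f₂ η b = stalkLin f' η a)) :
    rng k f' ≤ rng k f₁ ⊔ rng k f₂ := by
  refine (rng_le k hdim (biprod.desc f₁ f₂) f' (CohDev.isCoh_biprod h₁ h₂) hA' hG fun η hη a => ?_).trans ?_
  · rcases h η hη with h | h
    · obtain ⟨b, hb⟩ := h a
      exact ⟨stalkLin biprod.inl η b, by rw [← CohDev.stalkLin_comp_apply, biprod.inl_desc, hb]⟩
    · obtain ⟨b, hb⟩ := h a
      exact ⟨stalkLin biprod.inr η b, by rw [← CohDev.stalkLin_comp_apply, biprod.inr_desc, hb]⟩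
  · rintro _ ⟨x, rfl⟩
    refine Submodule.mem_sup.2 ⟨_, ⟨CohLin.hMap biprod.fst 1 x, rfl⟩, _, ⟨CohLin.hMap biprod.snd 1 x, rfl⟩, ?_⟩
    show CohLin.hMap f₁ 1 _ + CohLin.hMap f₂ 1 _ = CohLin.hMap (biprod.desc f₁ f₂) 1 x
    rw [← CohLin.hMap_comp, ← CohLin.hMap_comp, ← CohLin.hMap_add]
    congr 2
    exact biprod.desc_eq.symm

end coh

end Groth.Agent.CurveRed
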