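import Groth.Agent.CurveRed.Basic

/-!
# Sections of rank one torsion-free modules on reduced curves

If for all proper sets `T` of generic points the sections vanishing on `T` form a module with nonzero
`H¹`, then `h⁰ ≤ h¹` of the structure sheaf of the support.
-/

universe u

open CategoryTheory CategoryTheory.Limits AlgebraicGeometry TopologicalSpace
open Groth.Agent.Props.GenLocus Groth.Agent.PullStalk.Sky Groth.Agent.PullStalk.Exact

set_option linter.style.haveILetI false
set_option linter.unusedSectionVars false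
set_option synthInstance.maxHeartbeats 200000
set_option maxHeartbeats 1000000

noncomputable section

namespace Groth.Agent.CurveRed

variable {X : Scheme.{u}}

/-- Torsion-free of rank at most one. -/
structure Thin (G : X.Modules) : Prop where
  line : ∀ η, IsField (X.presheaf.stalk η) → ∀ u v : G.presheaf.stalk η, u ≠ 0 →
    ∃ c : X.presheaf.stalk η, c • u = v
  sep : ∀ (U : X.Opens) (s : Γ(G, U)),
    (∀ η (hη : η ∈ U), IsField (X.presheaf.stalk η) → germM G U η hη s = 0) → s = 0

theorem germM_app_zero {M N : X.Modules} {f : M ⟶ N} {U : X.Opens} {m : Γ(M, U)} {x : X} (hx : x ∈ U)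
    (h : f.app U m = 0) : stalkLin f x (germM M U x hx m) = 0 := by
  rw [stalkLin_germ, h]; exact map_zero (N.presheaf.germ U x hx).hom

theorem Thin.mono {K G : X.Modules} (hG : Thin G) (j : K ⟶ G) [Mono j] : Thin K where
  line η hη u v hu := by
    obtain ⟨c, hc⟩ := hG.line η hη (stalkLin j η u) (stalkLin j η v)
      (fun h => hu (CohDev.stalk_injective j η (h.trans (map_zero _).symm)))
    exact ⟨c, CohDev.stalk_injective j η ((map_smul _ _ _).trans hc)⟩
  sep U s hs := QCoh.app_injective_of_mono j U (Eq.trans (hG.sep U (j.app U s) fun η hη hf => by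
    rw [← stalkLin_germ, hs η hη hf, map_zero]) (map_zero (j.app U).hom).symm)

theorem Thin.hom_eq_zero {A G : X.Modules} (hG : Thin G) (f : A ⟶ G)
    (h : ∀ η, IsField (X.presheaf.stalk η) → ∀ a, stalkLin f η a = 0) : f = 0 := by
  ext U m
  exact hG.sep U (f.app U m) fun η hη hf => (stalkLin_germ f U η hη m).symm.trans (h η hf _)

theorem Thin.surjective {A G : X.Modules} (hG : Thin G) (f : A ⟶ G) {η : X}
    (hη : IsField (X.presheaf.stalk η)) {a : A.presheaf.stalk η} (ha : stalkLin f η a ≠ 0)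
    (v : G.presheaf.stalk η) : ∃ b, stalkLin f η b = v := by
  obtain ⟨c, hc⟩ := hG.line η hη _ v ha
  exact ⟨c • a, (map_smul _ _ _).trans hc⟩

/-- The submodule of the sections vanishing at given generic points. -/
theorem exists_vanishing [IsLocallyNoetherian X] {G : X.Modules} (hG : Coh.IsCoh G) (T : Finset X)
    (hT : ∀ η ∈ T, IsField (X.presheaf.stalk η)) :
    ∃ (K : X.Modules) (j : K ⟶ G), Mono j ∧ Coh.IsCoh K ∧
      (∀ η ∈ T, ∀ a, stalkLin j η a = 0) ∧
      (∀ η, IsField (X.presheaf.stalk η) → η ∉ T → Function.Surjective (stalkLin j η)) ∧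
      (∀ {A : X.Modules} (f : A ⟶ G), (∀ η ∈ T, ∀ a, stalkLin f η a = 0) → ∃ l : A ⟶ K, l ≫ j = f) := by
  classical
  induction T using Finset.induction with
  | empty =>
    refine ⟨G, 𝟙 G, inferInstance, hG, by simp, fun η _ _ v => ⟨v, ?_⟩, fun f _ => ⟨f, Category.comp_id f⟩⟩
    obtain ⟨W, hW, m, rfl⟩ := exists_germM_eq G η v
    rw [stalkLin_germ]; rfl
  | insert e T he ih =>
    obtain ⟨K, j, hj, hK, h0, hsur, huniv⟩ := ih fun η hη => hT η (Finset.mem_insert_of_mem hη)
    haveI := hj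
    have he' : IsField (X.presheaf.stalk e) := hT e (Finset.mem_insert_self e T)
    let τ : K ⟶ sky e (G.presheaf.stalk e) := toSky (stalkLin j e)
    have hq : Coh.IsQCoh (sky e (G.presheaf.stalk e)) :=
      AssSch.Quot.isQuasicoherent_sky e _ fun r hr t => ⟨1, by
        letI := he'.toField
        rw [IsLocalRing.isField_iff_maximalIdeal_eq.1 he', Ideal.mem_bot] at hr
        rw [hr, pow_one, zero_smul]⟩
    have hcomp : ∀ {x : X} (t : (kernel τ).presheaf.stalk x),
        stalkLin (kernel.ι τ ≫ j) x t = stalkLin j x (stalkLin (kernel.ι τ) x t) :=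
      fun t => CohDev.stalkLin_comp_apply _ _ _ t
    refine ⟨kernel τ, kernel.ι τ ≫ j, inferInstance, CohDev.isCoh_kernel τ hK hq, ?_, ?_, ?_⟩
    · intro η hη a
      rcases Finset.mem_insert.1 hη with rfl | hη
      · obtain ⟨W, hW, m, rfl⟩ := exists_germM_eq _ η a
        have h : (kernel.ι τ ≫ τ).app W m = 0 := by rw [kernel.condition]; rfl
        rw [hcomp, stalkLin_germ]
        exact (toSky_app (stalkLin j η) W ((kernel.ι τ).app W m) ⟨hW⟩).symm.trans (congrFun h ⟨hW⟩)
      · rw [hcomp, h0 η hη]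
    · intro η hη hne v
      rw [Finset.mem_insert, not_or] at hne
      obtain ⟨a, rfl⟩ := hsur η hη hne.2 v
      obtain ⟨W, hW, m, rfl⟩ := exists_germM_eq K η a
      obtain ⟨O, hO, hηO, heO⟩ := not_specializes_iff_exists_open.1
        (fun h => hne.1 (eq_of_specializes_field hη h).symm)
      let W' : X.Opens := W ⊓ ⟨O, hO⟩
      have hW' : η ∈ W' := ⟨hW, hηO⟩
      obtain ⟨w, hw⟩ := AssSch.Quot.exists_kernel_app τ
        (U := W') (s := K.presheaf.map (homOfLE (inf_le_left : W' ≤ W)).op m)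
        (funext fun h => absurd h.down.2 heO)
      refine ⟨germM (kernel τ) W' η hW' w, ?_⟩
      rw [hcomp, stalkLin_germ, hw]
      exact congrArg (stalkLin j η) (K.presheaf.germ_res_apply _ η hW' m)
    · intro A f hf
      obtain ⟨l, rfl⟩ := huniv f fun η hη => hf η (Finset.mem_insert_of_mem hη)
      refine ⟨kernel.lift τ l ?_, by rw [← Category.assoc, kernel.lift_ι]⟩
      ext W m
      funext h
      refine (toSky_app (stalkLin j e) W (l.app W m) h).trans ?_
      rw [← stalkLin_germ l W e h.down m, ← CohDev.stalkLin_comp_apply]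
      exact hf e (Finset.mem_insert_self e T) _

section coh

variable (k : Type u) [Field k] [X.Over (Spec (CommRingCat.of k))]
  [IsProper (X ↘ Spec (CommRingCat.of k))]

/-- The section attached to a class in degree zero. -/
abbrev secHom (G : X.Modules) (c : Coh.HH X G 0) : Coh.structureModule X ⟶ G :=
  homOfSec (ProperFin.h0Sec G c)

theorem eq_hMap_of_secHom {K G : X.Modules} (j : K ⟶ G) (c : Coh.HH X G 0)
    (l : Coh.structureModule X ⟶ K) (hl : l ≫ j = secHom G c) :
    CohLin.hMap j 0 ((ProperFin.h0Sec K).symm (sec l ⊤)) = c := by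
  refine (ProperFin.h0Sec G).injective ?_
  rw [ProperFin.h0Sec_hMap, AddEquiv.apply_symm_apply]
  refine (show j.app ⊤ (sec l ⊤) = sec (l ≫ j) ⊤ from rfl).trans ?_
  rw [hl, secHom, sec_homOfSec]
  exact QCoh.res_self _ _ _

variable [AlgebraicGeometry.IsReduced X]

include k in
omit [X.Over (Spec (CommRingCat.of k))] [IsProper (X ↘ Spec (CommRingCat.of k))] [Field k] in
theorem h0_eq_zero {G : X.Modules} (hG : Thin G)
    (h : ∀ η, IsField (X.presheaf.stalk η) → Subsingleton (G.presheaf.stalk η)) (c : Coh.HH X G 0) :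
    c = 0 := by
  refine (ProperFin.h0Sec G).injective (Eq.trans ?_ (map_zero _).symm)
  exact hG.sep ⊤ _ fun η hη hf => @Subsingleton.elim _ (h η hf) _ _

/-- The bound on sections. -/
theorem h0_add_rank_le (hdim : topologicalKrullDim X ≤ 1) (S : Finset X) :
    (∀ η ∈ S, IsField (X.presheaf.stalk η)) → ∀ (G : X.Modules), Coh.IsCoh G → Thin G →
    (∀ η, IsField (X.presheaf.stalk η) → η ∉ S → Subsingleton (G.presheaf.stalk η)) →
    (∀ T ⊂ S, ∀ (K : X.Modules) (j : K ⟶ G), Mono j → Coh.IsCoh K →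
      (∀ η ∈ T, ∀ a, stalkLin j η a = 0) →
      (∀ η ∈ S, η ∉ T → Function.Surjective (stalkLin j η)) → Nontrivial (Coh.HH X K 1)) →
    ∀ (I : X.Modules) (j : I ⟶ Coh.structureModule X), Coh.IsCoh I →
      (∀ η ∈ S, ∀ a, stalkLin j η a = 0) →
      Module.finrank k (Coh.HH X G 0) + Module.finrank k (rng k j) ≤ Curv2.genus k X := by
  haveI := EulerChar.isNoetherian k (X := X)
  classical
  have hO := VBLib.isCoh_of_ofRank
    (ProjTwist.isFinLocFreeOfRank_one (PicLoc.isInvertible_structureModule X))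
  haveI := EulerChar.finite_HH k (Coh.structureModule X) hO 1
  induction S using Finset.strongInduction with
  | H S ih =>
  intro hS G hGc hG hout hyp I jI hI hjI
  haveI := EulerChar.finite_HH k G hGc 1
  rcases S.eq_empty_or_nonempty with rfl | hne
  · haveI : Subsingleton (Coh.HH X G 0) := subsingleton_of_forall_eq 0 fun c =>
      h0_eq_zero k hG (fun η hη => hout η hη (Finset.notMem_empty η)) c
    rw [Module.finrank_zero_of_subsingleton, zero_add]
    exact Submodule.finrank_le _
  choose K j hj hK h0 hsur huniv using fun T : S.powerset =>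
    exists_vanishing hGc T.1 fun η hη => hS η (Finset.mem_powerset.1 T.2 hη)
  let R : S.powerset → Submodule k (Coh.HH X G 1) := fun T => rng k (j T)
  have hGnt : Nontrivial (Coh.HH X G 1) := hyp ∅ (Finset.empty_ssubset.2 hne) G (𝟙 G) inferInstance hGc
    (by simp) fun η _ _ v => ⟨v, by
      obtain ⟨W, hW, m, rfl⟩ := exists_germM_eq G η v
      rw [stalkLin_germ]; rfl⟩
  have hRe : ∀ T : S.powerset, T.1 = ∅ → R T = ⊤ := fun T hT => LinearMap.range_eq_top.2
    (surjective_h1 k hdim (j T) (hK T) hGc fun η hη => hsur T η hη (by simp [hT]))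
  have hRS : R ⟨S, Finset.mem_powerset_self S⟩ = ⊥ := by
    refine eq_bot_iff.2 ?_
    refine (rng_le k hdim (0 : G ⟶ G) _ hGc (hK _) hGc fun η hη a => ⟨0, ?_⟩).trans ?_
    · rw [map_zero]
      by_cases hS' : η ∈ S
      · exact (h0 _ η hS' a).symm
      · exact @Subsingleton.elim _ (hout η hη hS') _ _
    · rintro _ ⟨x, rfl⟩
      exact map_zero (CohLin.hMapHom G G 1 x)
  let F := (Finset.univ : Finset S.powerset).filter fun T => R T ≠ ⊤
  have hF : F.Nonempty := ⟨⟨S, Finset.mem_powerset_self S⟩, Finset.mem_filter.2 ⟨Finset.mem_univ _, by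
    rw [hRS]; exact bot_ne_top⟩⟩
  obtain ⟨Y, hYF, hYmin⟩ := F.exists_min_image (fun T => T.1.card) hF
  have hYR : R Y ≠ ⊤ := (Finset.mem_filter.1 hYF).2
  have hYS : Y.1 ⊆ S := Finset.mem_powerset.1 Y.2
  have hYne : Y.1.Nonempty := Finset.nonempty_iff_ne_empty.2 fun h => hYR (hRe Y h)
  obtain ⟨v, -, hv⟩ := SetLike.exists_of_lt (lt_top_iff_ne_top.2 hYR)
  obtain ⟨ℓ, hℓv, hℓR⟩ := Submodule.exists_dual_map_eq_bot_of_notMem hv inferInstance
  have hℓ : ∀ z ∈ R Y, ℓ z = 0 := fun z hz => by
    have : ℓ z ∈ Submodule.map ℓ (R Y) := Submodule.mem_map_of_mem hz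
    rwa [hℓR, Submodule.mem_bot] at this
  let Ψ : Coh.HH X G 0 →ₗ[k] Module.Dual k (Coh.HH X (Coh.structureModule X) 1) :=
    (LinearMap.llcomp k _ _ _ ℓ).comp (CurveSimple.mulSec k G)
  -- the kernel consists of sections vanishing on `Y`
  haveI := hj Y
  haveI := EulerChar.finite_HH k G hGc 0
  haveI := EulerChar.finite_HH k (K Y) (hK Y) 0
  have hker : LinearMap.ker Ψ ≤ LinearMap.range (CohLin.overLin k (CohLin.hMap (j Y) 0)) := by
    intro c hc
    let φ := secHom G c
    let T₀ := S.filter fun η => ∀ a, stalkLin φ η a = 0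
    by_cases hYT : Y.1 ⊆ T₀
    · obtain ⟨l, hl⟩ := huniv Y φ fun η hη => (Finset.mem_filter.1 (hYT hη)).2
      exact ⟨_, eq_hMap_of_secHom (j Y) c l hl⟩
    exfalso
    let T' : S.powerset := ⟨T₀ ∩ Y.1, Finset.mem_powerset.2
      (Finset.inter_subset_right.trans hYS)⟩
    have hlt : T'.1 ⊂ Y.1 := Finset.ssubset_iff_subset_ne.2 ⟨Finset.inter_subset_right, fun e =>
      hYT (fun η hη => (Finset.mem_inter.1 ((Finset.ext_iff.1 e η).2 hη : η ∈ T₀ ∩ Y.1)).1)⟩
    have hT' : R T' = ⊤ := by
      by_contra h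
      exact absurd (hYmin T' (Finset.mem_filter.2 ⟨Finset.mem_univ _, h⟩))
        (not_le.2 (Finset.card_lt_card hlt))
    have hsup := rng_le_sup k hdim φ (j Y) (j T') hO (hK Y) (hK T') hGc fun η hη => by
      by_cases hS' : η ∈ S
      · by_cases hT₀ : η ∈ T₀
        · by_cases hY : η ∈ Y.1
          · exact Or.inr fun a => ⟨0, by
              rw [map_zero, h0 T' η (Finset.mem_inter.2 ⟨hT₀, hY⟩) a]⟩
          · exact Or.inr fun a => hsur Y η hη hY _
        · obtain ⟨a₀, ha₀⟩ := not_forall.1 fun h => hT₀ (Finset.mem_filter.2 ⟨hS', h⟩)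
          exact Or.inl fun a => hG.surjective φ hη ha₀ _
      · exact Or.inl fun a => ⟨0, @Subsingleton.elim _ (hout η hη hS') _ _⟩
    rw [show rng k (j T') = ⊤ from hT', top_le_iff] at hsup
    obtain ⟨y, ⟨w, rfl⟩, z, hz, hyz⟩ := Submodule.mem_sup.1 (hsup.symm ▸ trivial : v ∈ rng k φ ⊔ rng k (j Y))
    refine hℓv ?_
    rw [← hyz, map_add, hℓ z hz, add_zero]
    exact LinearMap.congr_fun hc w
  -- the image kills the sections vanishing on `Y`
  obtain ⟨IY, jY, hjY', hIY, hY0, hYsur, -⟩ := exists_vanishing hO Y.1 fun η hη => hS η (hYS hη)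
  obtain ⟨IZ, jZ, hjZ', hIZ, hZ0, hZsur, -⟩ := exists_vanishing hO (S \ Y.1) fun η hη =>
    hS η (Finset.mem_sdiff.1 hη).1
  have hann : LinearMap.range Ψ ≤ (rng k jY).dualAnnihilator := by
    rintro _ ⟨c, rfl⟩
    rw [Submodule.mem_dualAnnihilator]
    rintro _ ⟨x, rfl⟩
    obtain ⟨l, hl⟩ := huniv Y (jY ≫ secHom G c) fun η hη a => by
      rw [CohDev.stalkLin_comp_apply, hY0 η hη a, map_zero]
    refine hℓ _ ⟨CohLin.hMap l 1 x, ?_⟩
    show CohLin.hMap (j Y) 1 (CohLin.hMap l 1 x) = CohLin.hMap (secHom G c) 1 (CohLin.hMap jY 1 x)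
    rw [← CohLin.hMap_comp, hl, CohLin.hMap_comp]
  -- recursion
  have hlt : S \ Y.1 ⊂ S := Finset.sdiff_ssubset hYS hYne
  have hrec := ih (S \ Y.1) hlt (fun η hη => hS η (Finset.mem_sdiff.1 hη).1) (K Y) (hK Y) (hG.mono (j Y))
    (fun η hη hne' => by
      by_cases hY : η ∈ Y.1
      · refine subsingleton_of_forall_eq 0 fun a => CohDev.stalk_injective (j Y) η ?_
        rw [h0 Y η hY a, map_zero]
      · haveI := hout η hη fun h => hne' (Finset.mem_sdiff.2 ⟨h, hY⟩)
        exact (CohDev.stalk_injective (j Y) η).subsingleton)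
    (fun T hT K' j' hm hK' hz hs => by
      refine hyp (T ∪ Y.1) ?_ K' (j' ≫ j Y) inferInstance hK' ?_ ?_
      · refine Finset.ssubset_iff_subset_ne.2 ⟨Finset.union_subset (hT.subset.trans Finset.sdiff_subset) hYS,
          fun e => ?_⟩
        obtain ⟨η, hη, hηT⟩ := Finset.exists_of_ssubset hT
        have : η ∈ T ∪ Y.1 := e.symm ▸ (Finset.mem_sdiff.1 hη).1
        rcases Finset.mem_union.1 this with h | h
        · exact hηT h
        · exact (Finset.mem_sdiff.1 hη).2 h
      · intro η hη a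
        rw [CohDev.stalkLin_comp_apply]
        rcases Finset.mem_union.1 hη with h | h
        · rw [hz η h a, map_zero]
        · exact h0 Y η h _
      · intro η hη hηT v'
        rw [Finset.mem_union, not_or] at hηT
        obtain ⟨a, ha⟩ := hsur Y η (hS η hη) hηT.2 v'
        obtain ⟨b, hb⟩ := hs η (Finset.mem_sdiff.2 ⟨hη, hηT.2⟩) hηT.1 a
        exact ⟨b, by rw [CohDev.stalkLin_comp_apply, hb, ha]⟩)
    IZ jZ hIZ hZ0
  -- the two ranges together are everything
  have htop : rng k jY ⊔ rng k jZ = ⊤ := by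
    refine eq_top_iff.2 fun x _ => ?_
    refine rng_le_sup k hdim jY jZ (𝟙 _) hIY hIZ hO hO (fun η hη => ?_) ⟨x, CohLin.hMap_id _ 1 x⟩
    by_cases hY : η ∈ Y.1
    · exact Or.inr fun a => hZsur η hη (fun h => (Finset.mem_sdiff.1 h).2 hY) _
    · exact Or.inl fun a => hYsur η hη hY _
  have hinf : rng k jI ≤ rng k jY ⊓ rng k jZ := le_inf
    (rng_le k hdim jY jI hIY hI hO fun η hη a => by
      by_cases hY : η ∈ Y.1
      · exact ⟨0, by rw [map_zero, hjI η (hYS hY) a]⟩
      · exact hYsur η hη hY _)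
    (rng_le k hdim jZ jI hIZ hI hO fun η hη a => by
      by_cases hZ : η ∈ S \ Y.1
      · exact ⟨0, by rw [map_zero, hjI η (Finset.mem_sdiff.1 hZ).1 a]⟩
      · exact hZsur η hη hZ _)
  haveI hfin : ∀ W : Submodule k (Coh.HH X (Coh.structureModule X) 1), Module.Finite k W := fun W =>
    FiniteDimensional.finiteDimensional_submodule W
  haveI : Module.Free k (Coh.HH X (Coh.structureModule X) 1) := Module.Free.of_divisionRing k _
  have e1 := Submodule.finrank_sup_add_finrank_inf_eq (rng k jY) (rng k jZ)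
  rw [htop, finrank_top] at e1
  have e2 := Submodule.finrank_mono hinf
  have e3 := Ψ.finrank_range_add_finrank_ker
  have e4 := (Submodule.finrank_mono hker).trans (LinearMap.finrank_range_le _)
  have e5 := Submodule.finrank_mono hann
  have e6 := Subspace.finrank_add_finrank_dualAnnihilator_eq (rng k jY)
  rw [Curv2.genus] at hrec ⊢
  omega

end coh

end Groth.Agent.CurveRed
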