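import Groth.Agent.CurveRed.Basic

/-!
# Global functions on connected reduced proper schemes act freely
-/

universe u

open CategoryTheory CategoryTheory.Limits AlgebraicGeometry TopologicalSpace

set_option linter.style.haveILetI false
set_option linter.unusedSectionVars false
set_option synthInstance.maxHeartbeats 200000
set_option maxHeartbeats 1000000

noncomputable section

namespace Groth.Agent.CurveRed

variable {Z : Scheme.{u}} (k : Type u) [Field k] [Z.Over (Spec (CommRingCat.of k))]
  [IsProper (Z ↘ Spec (CommRingCat.of k))] [AlgebraicGeometry.IsReduced Z]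

omit [Field k] [Z.Over (Spec (CommRingCat.of k))] [IsProper (Z ↘ Spec (CommRingCat.of k))] in
theorem idempotent_eq [ConnectedSpace Z] (e : Γ(Z, ⊤)) (he : e * e = e) : e = 0 ∨ e = 1 := by
  have hd : Z.basicOpen e ⊓ Z.basicOpen (1 - e) = ⊥ := by
    rw [← Scheme.basicOpen_mul, mul_sub, mul_one, he, sub_self, Scheme.basicOpen_zero]
  have hc : ∀ z : Z, z ∈ Z.basicOpen e ∨ z ∈ Z.basicOpen (1 - e) := fun z => by
    rw [Scheme.mem_basicOpen_top, Scheme.mem_basicOpen_top]
    have h1 : Z.presheaf.germ ⊤ z trivial e + Z.presheaf.germ ⊤ z trivial (1 - e) = 1 := by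
      rw [← map_add, add_sub_cancel, map_one]
    exact IsLocalRing.isUnit_or_isUnit_of_add_one h1
  have hcl : IsClopen (Z.basicOpen e : Set Z) := by
    refine ⟨?_, (Z.basicOpen e).isOpen⟩
    have : (Z.basicOpen e : Set Z) = (Z.basicOpen (1 - e) : Set Z)ᶜ := by
      ext z
      refine ⟨fun h h' => ?_, fun h => (hc z).resolve_right h⟩
      have : z ∈ Z.basicOpen e ⊓ Z.basicOpen (1 - e) := ⟨h, h'⟩
      rw [hd] at this
      exact this
    rw [this]
    exact (Z.basicOpen (1 - e)).isOpen.isClosed_compl
  rcases isClopen_iff.1 hcl with h | h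
  · exact Or.inl ((basicOpen_eq_bot_iff e).1 (SetLike.coe_injective (by simpa using h)))
  · refine Or.inr ?_
    have h2 : (1 - e) = 0 := (basicOpen_eq_bot_iff (1 - e)).1 (by
      rw [← hd, show Z.basicOpen e = ⊤ from SetLike.coe_injective (by simpa using h), top_inf_eq])
    exact (sub_eq_zero.1 h2).symm

include k in
/-- Global functions form a field, so a nonzero cohomology group is at least as big. -/
theorem h0_le_h1 [ConnectedSpace Z] (N : Z.Modules) [Module.Finite k (Coh.HH Z N 1)]
    (hN : Nontrivial (Coh.HH Z N 1)) :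
    Module.finrank k (Coh.HH Z (Coh.structureModule Z) 0) ≤ Module.finrank k (Coh.HH Z N 1) := by
  haveI := EulerChar.isNoetherian k (X := Z)
  haveI := EulerChar.finite_HH k (Coh.structureModule Z)
    (VBLib.isCoh_of_ofRank (ProjTwist.isFinLocFreeOfRank_one (PicLoc.isInvertible_structureModule Z))) 0
  let R := Γ(Z, ⊤)
  let η : k →+* R := (Coh.toGlobal (Z ↘ Spec (CommRingCat.of k)) : k →+* Coh.Γtop Z)
  letI : Algebra k R := η.toAlgebra
  letI instO : Module R (Coh.HH Z (Coh.structureModule Z) 0) := Coh.moduleΓtop (Coh.structureModule Z) 0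
  letI instN : Module R (Coh.HH Z N 1) := Coh.moduleΓtop N 1
  have hsec : ∀ (r : R) (c : Coh.HH Z (Coh.structureModule Z) 0),
      (show R from ProperFin.h0Sec (Coh.structureModule Z) (r • c)) =
        r * (show R from ProperFin.h0Sec (Coh.structureModule Z) c) := fun r c =>
    ProperFin.h0Sec_smul (Coh.structureModule Z) r c
  let θ : Coh.HH Z (Coh.structureModule Z) 0 →ₗ[k] R :=
    { toFun := fun c => (show R from ProperFin.h0Sec (Coh.structureModule Z) c)
      map_add' := fun a b => map_add _ a b
      map_smul' := fun a c => by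
        rw [RingHom.id_apply, Algebra.smul_def]
        exact hsec (η a) c }
  have hθ : Function.Bijective θ := (ProperFin.h0Sec (Coh.structureModule Z)).bijective
  haveI : Module.Finite k R := Module.Finite.of_surjective θ hθ.2
  haveI : IsArtinianRing R := IsArtinianRing.of_finite k R
  haveI : _root_.IsReduced R := inferInstanceAs (_root_.IsReduced Γ(Z, ⊤))
  have hunit : ∀ a : R, a ≠ 0 → IsUnit a := by
    intro a ha
    obtain ⟨n, c, hc⟩ := IsArtinian.exists_pow_succ_smul_dvd a (1 : R)
    rw [smul_eq_mul, smul_eq_mul, mul_one] at hc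
    have h1 : (a - a ^ 2 * c) ^ (n + 1) = 0 := by
      have : a ^ n * (1 - a * c) = 0 := by
        rw [mul_sub, mul_one, ← mul_assoc, ← pow_succ, hc, sub_self]
      calc (a - a ^ 2 * c) ^ (n + 1) = a * (a ^ n * (1 - a * c)) * (1 - a * c) ^ n := by
            rw [show a - a ^ 2 * c = a * (1 - a * c) by ring, mul_pow]; ring
        _ = 0 := by rw [this]; ring
    have h2 : a = a ^ 2 * c := sub_eq_zero.1 (eq_zero_of_pow_eq_zero h1)
    rcases idempotent_eq (Z := Z) (show Γ(Z, ⊤) from a * c) (by
      show (a * c) * (a * c) = a * c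
      conv_rhs => rw [h2]
      ring) with h | h
    · exact absurd (show a = 0 by rw [h2, pow_two, mul_assoc, show a * c = 0 from h, mul_zero]) ha
    · exact IsUnit.of_mul_eq_one c h
  obtain ⟨v, hv⟩ := exists_ne (0 : Coh.HH Z N 1)
  let ψ : Coh.HH Z (Coh.structureModule Z) 0 →ₗ[k] Coh.HH Z N 1 :=
    { toFun := fun c => θ c • v
      map_add' := fun a b => by rw [map_add, add_smul]
      map_smul' := fun a c => by
        rw [map_smul, RingHom.id_apply, Algebra.smul_def, mul_smul]
        rfl }
  refine LinearMap.finrank_le_finrank_of_injective (f := ψ) ((injective_iff_map_eq_zero _).2 fun c hc => ?_)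
  by_contra hc0
  have hne : θ c ≠ 0 := fun h => hc0 (hθ.1 (h.trans (map_zero θ).symm))
  obtain ⟨b, hb⟩ := (hunit _ hne).exists_left_inv
  have : θ c • v = 0 := hc
  exact hv (by rw [← one_smul R v, ← hb, mul_smul, this, smul_zero])

end Groth.Agent.CurveRed
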