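import Groth.Agent.CurveRed.Split
import Groth.Agent.CurveRed.Field
import Groth.Agent.KoszSh77.Unit
import Groth.Agent.IdealSh.IdealMod
import Groth.Agent.IdealSh.Comap

/-!
# A subcurve of small degree when `H¹(I ⊗ L)` is nonzero
-/

universe u

open CategoryTheory CategoryTheory.Limits AlgebraicGeometry TopologicalSpace
open Groth.Agent.Props.GenLocus Groth.Agent.PullStalk.Sky Groth.Agent.PullStalk.Exact

set_option linter.style.haveILetI false
set_option linter.unusedSectionVars false
set_option synthInstance.maxHeartbeats 200000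
set_option maxHeartbeats 2000000

noncomputable section

namespace Groth.Agent.CurveRed

variable {X : Scheme.{u}} (k : Type u) [Field k] [X.Over (Spec (CommRingCat.of k))]
  [IsProper (X ↘ Spec (CommRingCat.of k))]

omit [Field k] [X.Over (Spec (CommRingCat.of k))] [IsProper (X ↘ Spec (CommRingCat.of k))] in
theorem idealModι_comp_toSubscheme {I K : X.IdealSheafData} (h : I ≤ K) :
    ClSub.idealModι I ≫ ClSub.toSubscheme K = 0 := by
  ext U s
  show K.subschemeι.app U ((ClSub.idealModι I).app U s) = 0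
  have h0 : I.subschemeι.app U ((ClSub.idealModι I).app U s) = 0 := by
    have := congrArg (fun φ => Scheme.Modules.Hom.app φ U s) (kernel.condition (ClSub.toSubscheme I))
    exact this
  rw [Scheme.Hom.congr_app (Scheme.IdealSheafData.inclusion_subschemeι h).symm U]
  simp [h0]

include k in
/-- The cokernel of an ideal in a closed subscheme. -/
theorem euler_coker_quot (I J : X.IdealSheafData) :
    Curv2.euler k X (cokernel (ClSub.idealModι I ≫ ClSub.toSubscheme J)) =
      Curv2.euler k X (ClSub.quotMod (I ⊔ J)) := by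
  haveI := EulerChar.isNoetherian k (X := X)
  let v := ClSub.idealModι I ≫ ClSub.toSubscheme J
  have hS := EulerChar.shortExact_ideal J
  haveI := hS.epi_g
  let θ := hS.exact.desc (ClSub.toSubscheme (I ⊔ J)) (idealModι_comp_toSubscheme le_sup_right)
  have hθ : ClSub.toSubscheme J ≫ θ = ClSub.toSubscheme (I ⊔ J) := hS.exact.g_desc _ _
  have hv : v ≫ θ = 0 := by
    rw [Category.assoc, hθ]; exact idealModι_comp_toSubscheme le_sup_left
  let θ' : cokernel v ⟶ ClSub.quotMod (I ⊔ J) := cokernel.desc v θ hv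
  have hθ' : cokernel.π v ≫ θ' = θ := cokernel.π_desc _ _ _
  haveI : Epi θ' := by
    haveI : Epi (ClSub.toSubscheme (I ⊔ J)) := (EulerChar.shortExact_ideal (I ⊔ J)).epi_g
    haveI : Epi θ := epi_of_epi_fac hθ
    exact epi_of_epi_fac hθ'
  haveI : Mono θ' := by
    refine Preadditive.mono_of_isZero_kernel _ (CohDev.isZero_of_support_eq_empty
      (Set.eq_empty_iff_forall_notMem.2 fun y => CohDev.not_mem_support_kernel θ' ?_))
    rw [injective_iff_map_eq_zero]
    intro t ht
    haveI : Epi (cokernel.π v) := inferInstance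
    obtain ⟨q, rfl⟩ := stalk_surjective (cokernel.π v) y t
    obtain ⟨b, rfl⟩ := stalk_surjective (ClSub.toSubscheme J) y q
    rw [← CohDev.stalkLin_comp_apply, hθ', ← CohDev.stalkLin_comp_apply, hθ] at ht
    obtain ⟨W, hW, m, rfl⟩ := exists_germM_eq (Coh.structureModule X) y b
    rw [stalkLin_germ] at ht
    obtain ⟨W', hle, hW', hz⟩ := AssSch.Stalk.exists_res_eq_zero _ y hW _ ht
    rw [← QCoh.app_res] at hz
    obtain ⟨A, hyA, hA⟩ := IdealSh.Comap.exists_affine_le y W' hW'
    let t' : Γ(X, A.1) := QCoh.res (Coh.structureModule X) (hA.trans hle) m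
    have ht' : (I ⊔ J).subschemeι.app A.1 t' = 0 := by
      show (ClSub.toSubscheme (I ⊔ J)).app A.1 (QCoh.res (Coh.structureModule X) (hA.trans hle) m) = 0
      rw [← QCoh.res_res (Coh.structureModule X) hle hA, QCoh.app_res, hz, map_zero]
    have hmem := (IdealSh.IdealMod.mem_ideal_iff (I ⊔ J) A t').2 ht'
    rw [Scheme.IdealSheafData.ideal_sup, Pi.sup_apply, Submodule.mem_sup] at hmem
    obtain ⟨b₁, hb₁, b₂, hb₂, hsum⟩ := hmem
    obtain ⟨s₁, hs₁⟩ := IdealSh.IdealMod.exists_sect I A.1 b₁ ((IdealSh.IdealMod.mem_ideal_iff I A b₁).1 hb₁)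
    have e : germM (Coh.structureModule X) W y hW m = germM (Coh.structureModule X) A.1 y hyA t' :=
      ((Coh.structureModule X).presheaf.germ_res_apply (homOfLE (hA.trans hle)) y hyA m).symm
    rw [e, stalkLin_germ, stalkLin_germ]
    refine (congrArg (germM (cokernel v) A.1 y hyA) ?_).trans (map_zero _)
    show (ClSub.toSubscheme J ≫ cokernel.π v).app A.1 t' = 0
    have h2 : (ClSub.toSubscheme J ≫ cokernel.π v).app A.1 b₂ = 0 := by
      show (cokernel.π v).app A.1 (J.subschemeι.app A.1 b₂) = 0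
      rw [(IdealSh.IdealMod.mem_ideal_iff J A b₂).1 hb₂]
      exact map_zero _
    have h1 : (ClSub.toSubscheme J ≫ cokernel.π v).app A.1 b₁ = 0 := by
      rw [← hs₁]
      have := congrArg (fun φ => Scheme.Modules.Hom.app φ A.1 s₁) (cokernel.condition v)
      exact this
    rw [← hsum]
    exact (map_add _ b₁ b₂).trans ((congrArg₂ (· + ·) h1 h2).trans (add_zero 0))
  haveI := isIso_of_mono_of_epi θ'
  exact EulerChar.euler_iso k (asIso θ')

variable [AlgebraicGeometry.IsReduced X]

set_option maxHeartbeats 4000000 in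
include k in
/-- The subcurve. -/
theorem exists_subcurve [ConnectedSpace X] (hdim : topologicalKrullDim X = 1) {L : X.Modules}
    (hL : PicF.IsInvertible L) (Z : X.IdealSheafData) (hZ : topologicalKrullDim (Z.support : Set X) ≤ 0)
    (h1 : Nontrivial (Coh.HH X (CohB1.tensorMod (ClSub.idealMod Z) L) 1)) :
    ∃ (J : X.IdealSheafData), AlgebraicGeometry.IsReduced J.subscheme ∧ ConnectedSpace J.subscheme ∧
      topologicalKrullDim J.subscheme = 1 ∧
      @Curv2.deg k _ J.subscheme ⟨J.subschemeι ≫ (X ↘ (Spec (CommRingCat.of k)))⟩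
          ((Scheme.Modules.pullback J.subschemeι).obj L) 1 ≤
        -2 * @Curv2.euler k _ J.subscheme ⟨J.subschemeι ≫ (X ↘ (Spec (CommRingCat.of k)))⟩
            (Coh.structureModule J.subscheme) +
          Module.finrank k (Coh.HH X (ClSub.quotMod (Z ⊔ J)) 0) := by
  classical
  haveI := EulerChar.isNoetherian k (X := X)
  have hd := hdim.le
  have hO := PicLoc.isInvertible_structureModule X
  have hL1 := ProjTwist.isFinLocFreeOfRank_one hL
  have hI := isCoh_idealMod k Z
  set A := CohDev.tens L (ClSub.idealMod Z) with hAdef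
  have hA : Coh.IsCoh A := CohDev.isCoh_tens hL1 hI
  have hA1 : Nontrivial (Coh.HH X A 1) :=
    (CohLin.hIso (show CohB1.tensorMod (ClSub.idealMod Z) L ≅ A from
      ProjTwist.tensComm (ClSub.idealMod Z) L) 1).symm.toEquiv.nontrivial
  have hnc : ∀ η : X, IsField (X.presheaf.stalk η) → ¬ IsClosed ({η} : Set X) := fun η hη =>
    not_closed_of_field hdim hη
  have hfin : {η : X | IsField (X.presheaf.stalk η)}.Finite :=
    (DecCurve.finite_not_closed k hd).subset hnc
  let MF := hfin.toFinset
  have hMF : ∀ η, η ∈ MF ↔ IsField (X.presheaf.stalk η) := fun η => hfin.mem_toFinset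
  have hQs := (TopDimLib.topDim_le_of_subset (EulerChar.support_quotMod_subset Z)).trans hZ
  have hZf : ∀ η, IsField (X.presheaf.stalk η) → η ∉ (Z.support : Set X) := fun η hη hs =>
    hnc η hη (EulerChar.isClosed_of_subset_support k (EulerChar.isCoh_quotMod k Z) hQs
      (A := {η}) (Set.singleton_subset_iff.2
        (not_subsingleton_iff_nontrivial.2 (nontrivial_stalk_quotMod Z hs)))).1
  choose K j hj hK h0 hsur huniv using fun T : MF.powerset =>
    exists_vanishing hA T.1 fun η hη => (hMF η).1 (Finset.mem_powerset.1 T.2 hη)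
  let S := (Finset.univ : Finset MF.powerset).filter fun T => rng k (j T) ≠ ⊤
  have hR0 : ∀ T : MF.powerset, T.1 = ∅ → rng k (j T) = ⊤ := fun T hT => LinearMap.range_eq_top.2
    (surjective_h1 k hd (j T) (hK T) hA fun η hη => hsur T η hη (by simp [hT]))
  have hSne : S.Nonempty := ⟨⟨MF, Finset.mem_powerset_self MF⟩, Finset.mem_filter.2 ⟨Finset.mem_univ _, by
    have : rng k (j ⟨MF, Finset.mem_powerset_self MF⟩) ≤ ⊥ := by
      refine (rng_le k hd (0 : A ⟶ A) _ hA (hK _) hA fun η hη a => ⟨0, ?_⟩).trans ?_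
      · rw [map_zero]; exact (h0 _ η ((hMF η).2 hη) a).symm
      · rintro _ ⟨x, rfl⟩
        exact map_zero (CohLin.hMapHom A A 1 x)
    rw [le_bot_iff.1 this]
    exact bot_ne_top⟩⟩
  obtain ⟨TT, hTS, hTmin⟩ := S.exists_min_image (fun T => T.1.card) hSne
  have hTR : rng k (j TT) ≠ ⊤ := (Finset.mem_filter.1 hTS).2
  set T := TT.1 with hTdef
  have hTf : ∀ η ∈ T, IsField (X.presheaf.stalk η) := fun η hη => (hMF η).1 (Finset.mem_powerset.1 TT.2 hη)
  have hmin : ∀ T' : MF.powerset, T'.1 ⊂ T → rng k (j T') = ⊤ := fun T' hT' => by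
    by_contra h
    exact absurd (hTmin T' (Finset.mem_filter.2 ⟨Finset.mem_univ _, h⟩))
      (not_le.2 (Finset.card_lt_card hT'))
  have hTne : T.Nonempty := Finset.nonempty_iff_ne_empty.2 fun h => hTR (hR0 TT h)
  -- the image in the subcurve
  set J := subIdeal T with hJdef
  set G := restr L J with hGdef
  have hG : Thin G := thin_restr hL hTf
  let v := ClSub.idealModι Z ≫ ClSub.toSubscheme J
  let S₁ := ShortComplex.mk (kernel.ι v) (Abelian.factorThruImage v)
    ((cancel_mono (Abelian.image.ι v)).mp (by simp))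
  have hS₁ : S₁.ShortExact := by
    refine { exact := ShortComplex.exact_of_f_is_kernel _ ?_ }
    refine KernelFork.IsLimit.ofι' _ _ fun {C} a ha => ⟨kernel.lift v a ?_, kernel.lift_ι _ _ _⟩
    rw [← Abelian.image.fac v, ← Category.assoc]
    exact (congrArg (· ≫ Abelian.image.ι v) ha).trans zero_comp
  have hS₂ : (ShortComplex.mk (Abelian.image.ι v) (cokernel.π v) (kernel.condition _)).ShortExact :=
    ShortComplex.ShortExact.mk' (ShortComplex.exact_kernel (cokernel.π v))
      (inferInstanceAs (Mono (kernel.ι (cokernel.π v)))) (inferInstanceAs (Epi (cokernel.π v)))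
  have hT₁ := CohDev.tens_shortExact hL1 hS₁
  have hT₂ := CohDev.tens_shortExact hL1 hS₂
  have hI' : Coh.IsCoh (Abelian.image v) := CohDev.isCoh_image v hI (EulerChar.isCoh_quotMod k J).1
  set F := CohDev.tens L (Abelian.image v) with hFdef
  have hF : Coh.IsCoh F := CohDev.isCoh_tens hL1 hI'
  let w : A ⟶ F := (DCoh.tensorBi.obj L).map (Abelian.factorThruImage v)
  let jF : F ⟶ G := (DCoh.tensorBi.obj L).map (Abelian.image.ι v)
  haveI hwE : Epi w := hT₁.epi_g
  haveI hjM : Mono jF := hT₂.mono_f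
  have hu : w ≫ jF = (DCoh.tensorBi.obj L).map (ClSub.idealModι Z) ≫ toRestr L J := by
    show (DCoh.tensorBi.obj L).map _ ≫ (DCoh.tensorBi.obj L).map _ = _ ≫ (DCoh.tensorBi.obj L).map _
    rw [← Functor.map_comp, ← Functor.map_comp, Abelian.image.fac]
  have hFT : Thin F := hG.mono jF
  have houtG : ∀ η, IsField (X.presheaf.stalk η) → η ∉ T → Subsingleton (G.presheaf.stalk η) := fun η hη hne =>
    subsingleton_restr L fun e => hne ((mem_iff_mem_support hη).1 e)
  have hout : ∀ η, IsField (X.presheaf.stalk η) → η ∉ T → Subsingleton (F.presheaf.stalk η) :=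
    fun η hη hne => by
      haveI := houtG η hη hne
      exact (CohDev.stalk_injective jF η).subsingleton
  have hwinj : ∀ η ∈ T, ∀ a, stalkLin w η a = 0 → a = 0 := by
    intro η hη a ha
    have h2 : stalkLin (toRestr L J) η (stalkLin ((DCoh.tensorBi.obj L).map (ClSub.idealModι Z)) η a) = 0 := by
      rw [← CohDev.stalkLin_comp_apply, ← hu, CohDev.stalkLin_comp_apply, ha, map_zero]
    by_contra ha0
    haveI : Mono ((DCoh.tensorBi.obj L).map (ClSub.idealModι Z)) := (shortExact_restr hL Z).mono_f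
    have hb0 : stalkLin ((DCoh.tensorBi.obj L).map (ClSub.idealModι Z)) η a ≠ 0 := fun h =>
      ha0 (CohDev.stalk_injective _ η (h.trans (map_zero _).symm))
    obtain ⟨t, ht⟩ := @exists_ne _ (nontrivial_restr hL J ((mem_iff_mem_support (hTf η hη)).2 hη)) 0
    haveI : Epi (toRestr L J) := (shortExact_restr hL J).epi_g
    obtain ⟨t', rfl⟩ := stalk_surjective (toRestr L J) η t
    obtain ⟨c, rfl⟩ := (thin_invertible (AmpleLib.isInvertible_tensorMod hL hO)).line η (hTf η hη) _ t' hb0
    exact ht ((map_smul (stalkLin (toRestr L J) η) c _).trans ((congrArg (c • ·) h2).trans (smul_zero c)))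
  have hkw : ∀ T' : MF.powerset, ∀ η, IsField (X.presheaf.stalk η) → η ∈ T'.1 ∨ η ∉ T →
      ∀ a, stalkLin (j T' ≫ w) η a = 0 := by
    intro T' η hη h a
    rw [CohDev.stalkLin_comp_apply]
    rcases h with h | h
    · rw [h0 T' η h a, map_zero]
    · exact @Subsingleton.elim _ (hout η hη h) _ _
  have hwtop : rng k w = ⊤ := LinearMap.range_eq_top.2
    (surjective_h1 k hd w hA hF fun η _ => stalk_surjective w η)
  have hjw : ∀ T' : MF.powerset, T'.1 ⊂ T → rng k (j T' ≫ w) = ⊤ := by
    intro T' hT'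
    refine eq_top_iff.2 fun y _ => ?_
    obtain ⟨a, rfl⟩ := (hwtop.symm ▸ trivial : y ∈ rng k w)
    obtain ⟨b, rfl⟩ := ((hmin T' hT').symm ▸ trivial : a ∈ rng k (j T'))
    exact ⟨b, CohLin.hMap_comp (j T') w 1 b⟩
  have hF1 : Nontrivial (Coh.HH X F 1) := by
    by_contra hn
    rw [not_nontrivial_iff_subsingleton] at hn
    refine hTR (eq_top_iff.2 fun y _ => ?_)
    obtain ⟨z, rfl⟩ := CohLin.exists_hMap_f_eq hT₁ y (@Subsingleton.elim _ hn _ _)
    refine rng_le k hd (j TT) ((DCoh.tensorBi.obj L).map (kernel.ι v)) (hK TT) ?_ hA (fun η hη a => ?_) ⟨z, rfl⟩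
    · exact CohDev.isCoh_tens hL1 (CohDev.isCoh_kernel v hI (EulerChar.isCoh_quotMod k J).1)
    · by_cases hηT : η ∈ T
      · refine ⟨0, ?_⟩
        rw [map_zero]
        refine (hwinj η hηT _ ?_).symm
        exact ((stalk_exact hT₁ η).2.1 _).2 ⟨a, rfl⟩
      · exact hsur TT η hη hηT _
  -- connectedness
  set Y := J.subscheme with hYdef
  let ι := J.subschemeι
  letI : Y.Over (Spec (CommRingCat.of k)) := ⟨ι ≫ (X ↘ Spec (CommRingCat.of k))⟩
  haveI hYr : AlgebraicGeometry.IsReduced Y := RedSub.isReduced_vanishingIdeal _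
  have hrange : Set.range ι = (J.support : Set X) := Scheme.IdealSheafData.range_subschemeι _
  obtain ⟨η₀, hη₀⟩ := hTne
  obtain ⟨z₀, hz₀⟩ : η₀ ∈ Set.range ι := hrange ▸ (mem_iff_mem_support (hTf η₀ hη₀)).2 hη₀
  haveI hYne : Nonempty Y := ⟨z₀⟩
  haveI hYc : ConnectedSpace Y := by
    haveI : PreconnectedSpace Y := by
      refine preconnectedSpace_iff_clopen.2 fun B hB => ?_
      by_contra hB'
      push Not at hB'
      obtain ⟨T₁, T₂, e₁, e₂, hT₁', hT₂', hcov, hdis, hid, he₁, he₂⟩ :=
        exists_split hL hTf hB hB'.1 hB'.2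
      have key : ∀ (e : G ⟶ G), (∀ z, stalkLin e z = 0 ∨ ∀ t, stalkLin e z t = t) →
          ∃ e' : F ⟶ F, e' ≫ jF = jF ≫ e := by
        intro e he
        have hz : (jF ≫ e) ≫ cokernel.π jF = 0 := hom_eq_zero_of_stalk _ fun z t => by
          rw [CohDev.stalkLin_comp_apply, CohDev.stalkLin_comp_apply]
          rcases he z with h | h
          · rw [h]; exact map_zero _
          · rw [h, ← CohDev.stalkLin_comp_apply, cokernel.condition, stalkLin_zero]
        exact ⟨Abelian.monoLift jF (jF ≫ e) hz, Abelian.monoLift_comp _ _ _⟩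
      have hsum : ∀ z t, stalkLin e₁ z t + stalkLin e₂ z t = t := fun z t => by
        rw [← stalkLin_add, hid, stalkLin_id]
      obtain ⟨e₁', he₁'⟩ := key e₁ fun z => by
        by_cases hz : z ∈ ((subIdeal T₁).support : Set X)
        · refine Or.inr fun t => ?_
          have := hsum z t
          rwa [he₂ z (fun h => hdis z hz h) t, add_zero] at this
        · exact Or.inl (LinearMap.ext (he₁ z hz))
      obtain ⟨e₂', he₂'⟩ := key e₂ fun z => by
        by_cases hz : z ∈ ((subIdeal T₂).support : Set X)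
        · refine Or.inr fun t => ?_
          have := hsum z t
          rwa [he₁ z (fun h => hdis z h hz) t, zero_add] at this
        · exact Or.inl (LinearMap.ext (he₂ z hz))
      have hid' : e₁' + e₂' = 𝟙 F := by
        rw [← cancel_mono jF, Preadditive.add_comp, he₁', he₂', ← Preadditive.comp_add, hid,
          Category.comp_id, Category.id_comp]
      have hzero : ∀ (T' : Finset X) (hT' : T' ⊂ T) (e' : F ⟶ F) (e : G ⟶ G), e' ≫ jF = jF ≫ e →
          (∀ z, z ∉ ((subIdeal T').support : Set X) → ∀ t, stalkLin e z t = 0) →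
          ∀ y, CohLin.hMap e' 1 y = 0 := by
        intro T' hT' e' e hee hez y
        let TT' : MF.powerset := ⟨T', Finset.mem_powerset.2 (hT'.subset.trans (Finset.mem_powerset.1 TT.2))⟩
        obtain ⟨b, rfl⟩ := ((hjw TT' hT').symm ▸ trivial : y ∈ rng k (j TT' ≫ w))
        show CohLin.hMap e' 1 (CohLin.hMap (j TT' ≫ w) 1 b) = 0
        have hz : (j TT' ≫ w) ≫ e' = 0 := hFT.hom_eq_zero _ fun η hη a => by
          rw [CohDev.stalkLin_comp_apply]
          by_cases h : η ∈ T'
          · rw [hkw TT' η hη (Or.inl h) a, map_zero]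
          · refine CohDev.stalk_injective jF η ?_
            rw [map_zero, ← CohDev.stalkLin_comp_apply, hee, CohDev.stalkLin_comp_apply]
            exact hez η (fun hs => h ((mem_iff_mem_support hη).1 hs)) _
        rw [← CohLin.hMap_comp, hz]
        exact map_zero (CohLin.hMapHom _ _ 1 b)
      obtain ⟨y, hy⟩ := exists_ne (0 : Coh.HH X F 1)
      refine hy ?_
      rw [← CohLin.hMap_id F 1 y, ← hid', CohLin.hMap_add, hzero T₁ hT₁' e₁' e₁ he₁' he₁,
        hzero T₂ hT₂' e₂' e₂ he₂' he₂, add_zero]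
    exact { toNonempty := hYne }
  have hYdim : topologicalKrullDim Y = 1 := by
    refine le_antisymm (ι.isEmbedding.isInducing.topologicalKrullDim_le.trans hd) ?_
    have hzc : ¬ IsClosed ({z₀} : Set Y) := fun hc => hnc _ (hTf _ hη₀) (by
      rw [← hz₀]
      simpa using ι.isClosedEmbedding.isClosedMap _ hc)
    obtain ⟨w', hw', hwz⟩ : ∃ w ∈ closure ({z₀} : Set Y), w ≠ z₀ := by
      by_contra hh
      push Not at hh
      exact hzc (subset_antisymm hh subset_closure ▸ isClosed_closure)
    let c : Y → IrreducibleCloseds Y := fun z =>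
      ⟨closure {z}, isIrreducible_singleton.closure, isClosed_closure⟩
    let ser : LTSeries (IrreducibleCloseds Y) :=
      LTSeries.mk 1 ![c w', c z₀] (Fin.strictMono_iff_lt_succ.2 fun i => by
        fin_cases i
        refine lt_of_le_of_ne (show closure {w'} ⊆ closure {z₀} from
          (specializes_iff_mem_closure.2 hw').closure_subset) fun h => hwz ?_
        exact (inseparable_iff_closure_eq.2 (congrArg (fun s : IrreducibleCloseds Y => (s : Set Y)) h)).eq)
    exact (Order.LTSeries.length_le_krullDim ser :)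
  refine ⟨J, hYr, hYc, hYdim, ?_⟩
  haveI : IsLocallyNoetherian Y := LocallyOfFiniteType.isLocallyNoetherian ι
  haveI : IsProper (Y ↘ Spec (CommRingCat.of k)) := inferInstanceAs (IsProper (ι ≫ _))
  -- sections of the image
  have hmain := h0_add_rank_le k hd T hTf F hF hFT hout (fun T' hT' K' j' _ hK' hj0 hjs => by
      let TT' : MF.powerset := ⟨T', Finset.mem_powerset.2 (hT'.subset.trans (Finset.mem_powerset.1 TT.2))⟩
      obtain ⟨y, hy⟩ := exists_ne (0 : Coh.HH X F 1)
      obtain ⟨z, hz⟩ : y ∈ rng k j' := rng_le k hd j' (j TT' ≫ w) hK' (hK TT') hF (fun η hη a => by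
        by_cases h : η ∈ T ∧ η ∉ T'
        · exact hjs η h.1 h.2 _
        · refine ⟨0, ?_⟩
          rw [map_zero, hkw TT' η hη ?_ a]
          by_cases h' : η ∈ T
          · exact Or.inl (not_not.1 fun hn => h ⟨h', hn⟩)
          · exact Or.inr h') ((hjw TT' hT').symm ▸ trivial)
      refine ⟨⟨z, 0, fun e => hy ?_⟩⟩
      rw [← hz, e, map_zero])
    (ClSub.idealMod J) (ClSub.idealModι J) (isCoh_idealMod k _)
    fun η hη a => stalk_idealModι_eq_zero _ (hTf η hη) ((mem_iff_mem_support (hTf η hη)).2 hη) a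
  have hgen := h1_quotMod_add k hd J
  -- H¹ of the pullback
  let P := (Scheme.Modules.pushforward ι).obj ((Scheme.Modules.pullback ι).obj A)
  let η_A : A ⟶ P := (Scheme.Modules.pullbackPushforwardAdjunction ι).unit.app A
  haveI : Epi η_A := KoszSh77.epi_unit ι A
  haveI : A.IsQuasicoherent := hA.1
  have hNq : Coh.IsQCoh ((Scheme.Modules.pullback ι).obj A) := inferInstanceAs
    ((Scheme.Modules.pullback ι).obj A).IsQuasicoherent
  haveI : ((Scheme.Modules.pullback ι).obj A).IsQuasicoherent := hNq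
  have hP : Coh.IsCoh P := CohDev.isCoh_of_epi η_A hA (QCoh.isQuasicoherent_pushforward ι _)
  let eG : G ≅ (Scheme.Modules.pushforward ι).obj ((Scheme.Modules.pullback ι).obj L) :=
    EulerChar.tensQuotIso ι L
  let h : P ⟶ G := (Scheme.Modules.pushforward ι).map
    (((Scheme.Modules.pullbackPushforwardAdjunction ι).homEquiv A _).symm ((w ≫ jF) ≫ eG.hom)) ≫ eG.inv
  have hh : η_A ≫ h = w ≫ jF := by
    show η_A ≫ _ ≫ eG.inv = _
    rw [← Category.assoc, ← Adjunction.homEquiv_unit, Equiv.apply_symm_apply, Category.assoc,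
      eG.hom_inv_id, Category.comp_id]
  obtain ⟨h', hh'⟩ : ∃ h' : P ⟶ F, h' ≫ jF = h := by
    refine ⟨Abelian.monoLift jF h ?_, Abelian.monoLift_comp _ _ _⟩
    rw [← cancel_epi η_A, ← Category.assoc, hh, Category.assoc, cokernel.condition, comp_zero, comp_zero]
  have hh'' : η_A ≫ h' = w := by rw [← cancel_mono jF, Category.assoc, hh', hh]
  haveI : Epi h' := epi_of_epi_fac hh''
  haveI := EulerChar.finite_HH k F hF 1
  haveI := EulerChar.finite_HH k P hP 1
  have hP1 : Module.finrank k (Coh.HH X P 1) ≤ Module.finrank k (Coh.HH X F 1) := by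
    let S₃ := ShortComplex.mk (kernel.ι h') h' (kernel.condition h')
    have hS₃ : S₃.ShortExact := { exact := S₃.exact_of_f_is_kernel (kernelIsKernel h') }
    have hker : Coh.IsCoh (kernel h') := CohDev.isCoh_kernel h' hP hF.1
    have hks : topologicalKrullDim ↥(CohB1.support (kernel h')) ≤ 0 :=
      dim_support_le_zero hd hker fun η hη => CohDev.not_mem_support_kernel h' (by
        rw [injective_iff_map_eq_zero]
        intro t ht
        by_cases hηT : η ∈ T
        · obtain ⟨a, rfl⟩ := stalk_surjective η_A η t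
          rw [← CohDev.stalkLin_comp_apply, hh''] at ht
          rw [hwinj η hηT a ht, map_zero]
        · have hηr : η ∉ Set.range ι := hrange ▸ fun e => hηT ((mem_iff_mem_support (T := T) hη).1 e)
          obtain ⟨a, rfl⟩ := stalk_surjective η_A η t
          obtain ⟨W, hW, m, rfl⟩ := exists_germM_eq A η a
          let W' : X.Opens := W ⊓ ⟨(Set.range ι)ᶜ, ι.isClosedEmbedding.isClosed_range.isOpen_compl⟩
          rw [stalkLin_germ]
          refine (P.presheaf.germ_res_apply (homOfLE (inf_le_left : W' ≤ W)) η ⟨hW, hηr⟩ _).symm.trans ?_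
          refine (congrArg (germM P W' η ⟨hW, hηr⟩) ?_).trans (map_zero _)
          exact TopCat.Presheaf.section_ext
            (⟨((Scheme.Modules.pullback ι).obj A).presheaf, ((Scheme.Modules.pullback ι).obj A).isSheaf⟩ :
              TopCat.Sheaf Ab Y) (ι ⁻¹ᵁ W') _ _ fun z hz => absurd ⟨z, rfl⟩ hz.2)
    haveI := EulerChar.subsingleton_HH_of_support k hker hks 0
    refine LinearMap.finrank_le_finrank_of_injective (f := CohLin.overLin k (CohLin.hMap h' 1))
      ((injective_iff_map_eq_zero _).2 fun y hy => ?_)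
    obtain ⟨z, rfl⟩ := CohLin.exists_hMap_f_eq hS₃ y hy
    rw [Subsingleton.elim z 0, map_zero]
  let ψ : Coh.HH X P 1 ≃ₗ[k] Coh.HH Y ((Scheme.Modules.pullback ι).obj A) 1 := (EulerChar.nonempty_pushEquiv ι rfl ((Scheme.Modules.pullback ι).obj A) hNq 1).some
  haveI : Module.Finite k (Coh.HH Y ((Scheme.Modules.pullback ι).obj A) 1) := Module.Finite.equiv ψ
  have hN1 : Nontrivial (Coh.HH Y ((Scheme.Modules.pullback ι).obj A) 1) := by
    haveI : Nontrivial (Coh.HH X P 1) := by
      refine (Function.Surjective.nontrivial (f := CohLin.hMap h' 1) ?_)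
      exact surjective_h1 k hd h' hP hF fun η _ => stalk_surjective h' η
    exact ψ.symm.toEquiv.nontrivial
  have hb : Module.finrank k (Coh.HH Y (Coh.structureModule Y) 0) ≤ Module.finrank k (Coh.HH X P 1) := by
    rw [ψ.finrank_eq]
    exact h0_le_h1 k ((Scheme.Modules.pullback ι).obj A) hN1
  -- Euler characteristics
  let M := (Scheme.Modules.pullback ι).obj L
  have hM := PicCl.isInvertible_pullback ι hL
  have hMq : Coh.IsQCoh M := (VBLib.isCoh_of_ofRank (ProjTwist.isFinLocFreeOfRank_one hM)).1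
  have hYO := VBLib.isCoh_of_ofRank
    (ProjTwist.isFinLocFreeOfRank_one (PicLoc.isInvertible_structureModule Y))
  have hχG : Curv2.euler k X G = Curv2.euler k Y M :=
    (EulerChar.euler_iso k eG).trans (EulerChar.euler_push ι rfl M hMq)
  have hg : Module.finrank k (Coh.HH X (ClSub.quotMod J) 1) =
      Module.finrank k (Coh.HH Y (Coh.structureModule Y) 1) :=
    (EulerChar.nonempty_pushEquiv ι rfl (Coh.structureModule Y) hYO.1 1).some.finrank_eq
  have he2 : Curv2.euler k Y (Coh.structureModule Y) =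
      (Module.finrank k (Coh.HH Y (Coh.structureModule Y) 0) : ℤ) -
        Module.finrank k (Coh.HH Y (Coh.structureModule Y) 1) := by
    haveI := EulerChar.isNoetherian k (X := Y)
    haveI : NoetherianSpace Y.toTopCat := inferInstanceAs (NoetherianSpace Y)
    rw [EulerChar.euler_eq_sum k (fun n hn => CohTop.Vanishing.grothendieck_vanishing (X := Y.toTopCat) 1
      hYdim.le (Coh.toAb _) n (show 1 < n from hn))]
    simp [Finset.sum_range_succ]
    ring
  have heF : Curv2.euler k X F = (Module.finrank k (Coh.HH X F 0) : ℤ) - Module.finrank k (Coh.HH X F 1) :=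
    DecCurve.euler_eq k hd F
  have hC : Coh.IsCoh (cokernel v) := CohDev.isCoh_cokernel v hI.1 (EulerChar.isCoh_quotMod k J)
  have hCsub : CohB1.support (cokernel v) ⊆ (Z.support : Set X) := fun y hy => by
    by_contra hyZ
    refine CohDev.not_mem_support_cokernel v (fun t => ?_) hy
    haveI : Epi (ClSub.toSubscheme J) := (EulerChar.shortExact_ideal J).epi_g
    obtain ⟨b, rfl⟩ := stalk_surjective (ClSub.toSubscheme J) y t
    obtain ⟨a, rfl⟩ := surjective_stalk_idealModι Z hyZ b
    exact ⟨a, CohDev.stalkLin_comp_apply _ _ _ a⟩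
  have hCs := (TopDimLib.topDim_le_of_subset hCsub).trans hZ
  have hKs := (TopDimLib.topDim_le_of_subset ((EulerChar.support_quotMod_subset (Z ⊔ J)).trans
    (Scheme.IdealSheafData.support_antitone (le_sup_left : Z ≤ Z ⊔ J)))).trans hZ
  have hsum : Curv2.euler k X G = Curv2.euler k X F + Curv2.euler k X (CohDev.tens L (cokernel v)) :=
    EulerChar.euler_add_map k (DCoh.tensorBi.obj L) (Abelian.image.ι v) (cokernel.π v)
      (kernel.condition _) hT₂ hF (CohDev.isCoh_tens hL1 (EulerChar.isCoh_quotMod k J))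
      (CohDev.isCoh_tens hL1 hC)
  rw [EulerChar.euler_tens_of_support k hL1 hC hCs, euler_coker_quot k Z J,
    EulerChar.euler_eq_finrank_of_support k (EulerChar.isCoh_quotMod k _) hKs] at hsum
  show Curv2.deg k Y M 1 ≤ -2 * Curv2.euler k Y (Coh.structureModule Y) + _
  rw [Curv2.deg, ← hχG]
  simp only [Curv2.genus] at hmain hgen
  push_cast
  omega

end Groth.Agent.CurveRed
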