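import Groth.Agent.CurveRed.Sub

/-!
# Global generation on reduced curves from degrees on subcurves
-/

universe u

open CategoryTheory CategoryTheory.Limits AlgebraicGeometry TopologicalSpace
open Groth.Agent.Props.GenLocus Groth.Agent.PullStalk.Sky Groth.Agent.PullStalk.Exact
open scoped TensorProduct

set_option linter.style.haveILetI false
set_option linter.unusedSectionVars false
set_option synthInstance.maxHeartbeats 200000
set_option maxHeartbeats 2000000

noncomputable section

namespace Groth.Agent.CurveRed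

variable {X : Scheme.{u}}

/-- The maximal ideal times the stalk. -/
abbrev mSub (M : X.Modules) (x : X) : Submodule (X.presheaf.stalk x) (M.presheaf.stalk x) :=
  IsLocalRing.maximalIdeal (X.presheaf.stalk x) • ⊤

theorem map_mSub {M N : X.Modules} (f : M ⟶ N) {x : X} {a : M.presheaf.stalk x} (ha : a ∈ mSub M x) :
    stalkLin f x a ∈ mSub N x := by
  have h1 : stalkLin f x a ∈ (mSub M x).map (stalkLin f x) := Submodule.mem_map_of_mem ha
  rw [Submodule.map_smul''] at h1
  exact Submodule.smul_mono le_rfl le_top h1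

theorem subsingleton_restr (L : X.Modules) {T : Finset X} {x : X}
    (hx : x ∉ ((subIdeal T).support : Set X)) :
    Subsingleton ((restr L (subIdeal T)).presheaf.stalk x) := by
  by_contra hn
  exact hx (EulerChar.support_quotMod_subset _ (CohDev.support_tens_subset L _ hn))

theorem nontrivial_restr {L : X.Modules} (hL : PicF.IsInvertible L) (J : X.IdealSheafData) {x : X}
    (hx : x ∈ (J.support : Set X)) : Nontrivial ((restr L J).presheaf.stalk x) := by
  obtain ⟨e⟩ := EulerChar.stalk_ofRank (ProjTwist.isFinLocFreeOfRank_one hL) x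
  haveI := nontrivial_stalk_quotMod J hx
  have E := (KFlat.StalkTensor.stalkTensorEquiv L (ClSub.quotMod J) x).trans
    ((LinearEquiv.rTensor _ (e.symm.trans (LinearEquiv.funUnique (Fin 1) _ _))).trans
      (TensorProduct.lid (X.presheaf.stalk x) _))
  exact E.toEquiv.nontrivial

section coh

variable (k : Type u) [Field k] [X.Over (Spec (CommRingCat.of k))]
  [IsProper (X ↘ Spec (CommRingCat.of k))] [AlgebraicGeometry.IsReduced X]

omit [Field k] [X.Over (Spec (CommRingCat.of k))] [IsProper (X ↘ Spec (CommRingCat.of k))] in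
theorem not_closed_of_field [IsNoetherian X] [ConnectedSpace X] (hdim : topologicalKrullDim X = 1) {η : X}
    (hη : IsField (X.presheaf.stalk η)) : ¬ IsClosed ({η} : Set X) := by
  intro hc
  have ho : IsOpen ({η} : Set X) := by
    by_contra ho
    obtain ⟨r, hrm, hr⟩ := DecCurve.exists_isRegular_mem hc ho
    rw [IsLocalRing.isField_iff_maximalIdeal_eq.1 hη, Ideal.mem_bot] at hrm
    exact not_isRegular_zero (hrm ▸ hr)
  have hu : ({η} : Set X) = Set.univ := IsClopen.eq_univ ⟨hc, ho⟩ (Set.singleton_nonempty η)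
  haveI : Subsingleton X := ⟨fun a b =>
    (Set.mem_singleton_iff.1 (hu.symm ▸ Set.mem_univ a)).trans
      (Set.mem_singleton_iff.1 (hu.symm ▸ Set.mem_univ b)).symm⟩
  haveI : Subsingleton (IrreducibleCloseds X) := ⟨fun a b => IrreducibleCloseds.ext
    ((Set.Nonempty.eq_univ a.isIrreducible.1).trans (Set.Nonempty.eq_univ b.isIrreducible.1).symm)⟩
  have h0 : topologicalKrullDim X ≤ 0 := Order.krullDim_nonpos_of_subsingleton
  rw [hdim] at h0
  norm_num at h0

set_option maxHeartbeats 4000000 in
include k in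
/-- Some section generates at a closed point. -/
theorem exists_genLocus [ConnectedSpace X] (hdim : topologicalKrullDim X = 1) {L : X.Modules}
    (hL : PicF.IsInvertible L)
    (h : ∀ J : X.IdealSheafData, AlgebraicGeometry.IsReduced J.subscheme → ConnectedSpace J.subscheme →
      topologicalKrullDim J.subscheme = 1 →
      2 * (@Curv2.genus k _ J.subscheme ⟨J.subschemeι ≫ (X ↘ Spec (CommRingCat.of k))⟩ : ℤ) ≤
        @Curv2.deg k _ J.subscheme ⟨J.subschemeι ≫ (X ↘ Spec (CommRingCat.of k))⟩
          ((Scheme.Modules.pullback J.subschemeι).obj L) 1)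
    (x : X) (hxc : IsClosed ({x} : Set X)) :
    ∃ s : Coh.structureModule X ⟶ CohDev.tens L (Coh.structureModule X), x ∈ CohB1.genLocus _ s := by
  classical
  haveI := EulerChar.isNoetherian k (X := X)
  have hd := hdim.le
  have hO := PicLoc.isInvertible_structureModule X
  have hB : PicF.IsInvertible (CohDev.tens L (Coh.structureModule X)) :=
    AmpleLib.isInvertible_tensorMod hL hO
  have hBc := VBLib.isCoh_of_ofRank (ProjTwist.isFinLocFreeOfRank_one hB)
  obtain ⟨eB⟩ := EulerChar.stalk_ofRank (ProjTwist.isFinLocFreeOfRank_one hB) x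
  refine EulerChar.exists_genLocus_of_span hB fun m => ?_
  by_contra hm
  have hbase : ∀ σ : Γ(CohDev.tens L (Coh.structureModule X), ⊤),
      germM _ ⊤ x trivial σ ∈ mSub (CohDev.tens L (Coh.structureModule X)) x := fun σ =>
    EulerChar.le_smul_top_of_ne_top eB
      (fun (e : Submodule.span (X.presheaf.stalk x) (Set.range fun σ : Γ(CohDev.tens L (Coh.structureModule X), ⊤) ↦
        germM _ ⊤ x trivial σ) = ⊤) => hm (e.ge trivial)) (Submodule.subset_span ⟨σ, rfl⟩)
  -- generic points
  have hnc : ∀ η : X, IsField (X.presheaf.stalk η) → ¬ IsClosed ({η} : Set X) := fun η hη =>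
    not_closed_of_field hdim hη
  have hfin : {η : X | IsField (X.presheaf.stalk η)}.Finite :=
    (DecCurve.finite_not_closed k hd).subset hnc
  let MF := hfin.toFinset
  have hMF : ∀ η, η ∈ MF ↔ IsField (X.presheaf.stalk η) := fun η => hfin.mem_toFinset
  have hQ : ∀ (T : Finset X), Coh.IsCoh (restr L (subIdeal T)) := fun T =>
    CohDev.isCoh_tens (ProjTwist.isFinLocFreeOfRank_one hL) (EulerChar.isCoh_quotMod k _)
  have hepi : ∀ T : Finset X, Epi (toRestr L (subIdeal T)) := fun T => (shortExact_restr hL _).epi_g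
  let P : Finset X → Prop := fun T => (∀ η ∈ T, IsField (X.presheaf.stalk η)) ∧
    x ∈ ((subIdeal T).support : Set X) ∧
    ∀ σ : Γ(restr L (subIdeal T), ⊤), germM _ ⊤ x trivial σ ∈ mSub (restr L (subIdeal T)) x
  have hPM : P MF := by
    refine ⟨fun η hη => (hMF η).1 hη, ?_, fun σ => ?_⟩
    · rw [mem_support_subIdeal]
      obtain ⟨η, hη⟩ := QuasiSober.sober (isIrreducible_irreducibleComponent (x := x))
        isClosed_irreducibleComponent
      refine ⟨η, (hMF η).2 (isField_of_maximal fun y hy => ?_), hη.specializes mem_irreducibleComponent⟩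
      have h1 : irreducibleComponent x ⊆ closure {y} := by
        rw [← hη.def]; exact hy.closure_subset
      have h2 : closure ({y} : Set X) = irreducibleComponent x :=
        eq_irreducibleComponent isIrreducible_singleton.closure.2 h1
      exact (inseparable_iff_closure_eq.2 (h2.trans hη.def.symm)).eq
    · haveI := hepi MF
      haveI : Mono (toRestr L (subIdeal MF)) := by
        refine Preadditive.mono_of_isZero_kernel _ (CohDev.isZero_of_support_eq_empty
          (Set.eq_empty_iff_forall_notMem.2 fun y => CohDev.not_mem_support_kernel _ ?_))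
        rw [injective_iff_map_eq_zero]
        intro t ht
        have h0 : ClSub.idealModι (subIdeal MF) = 0 := (thin_invertible hO).hom_eq_zero _ fun η hη a =>
          stalk_idealModι_eq_zero _ hη ((mem_iff_mem_support hη).2 ((hMF η).2 hη)) a
        obtain ⟨a, ha⟩ := ((stalk_exact (shortExact_restr hL (subIdeal MF)) y).2.1 t).1 ht
        rw [← ha]
        obtain ⟨W, hW, w, rfl⟩ := exists_germM_eq _ y a
        refine germM_app_zero hW ?_
        show ((DCoh.tensorBi.obj L).map (ClSub.idealModι (subIdeal MF))).app W w = 0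
        rw [h0, Functor.map_zero]
        rfl
      haveI := isIso_of_mono_of_epi (toRestr L (subIdeal MF))
      have : (toRestr L (subIdeal MF)).app ⊤ ((inv (toRestr L (subIdeal MF))).app ⊤ σ) = σ :=
        congrArg (fun ψ : restr L (subIdeal MF) ⟶ restr L (subIdeal MF) => ψ.app ⊤ σ)
          (IsIso.inv_hom_id (toRestr L (subIdeal MF)))
      rw [← this, ← stalkLin_germ]
      exact map_mSub _ (hbase _)
  obtain ⟨T, hTP, hTmin⟩ := (MF.powerset.filter P).exists_min_image Finset.card
    ⟨MF, Finset.mem_filter.2 ⟨Finset.mem_powerset_self MF, hPM⟩⟩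
  obtain ⟨hTf, hxT, hTb⟩ := (Finset.mem_filter.1 hTP).2
  have hTsub : T ⊆ MF := fun η hη => (hMF η).2 (hTf η hη)
  have hmin : ∀ T' : Finset X, T' ⊂ T → ¬ P T' := fun T' hT' hP =>
    absurd (hTmin T' (Finset.mem_filter.2 ⟨Finset.mem_powerset.2 (hT'.subset.trans hTsub), hP⟩))
      (not_le.2 (Finset.card_lt_card hT'))
  have hG : Thin (restr L (subIdeal T)) := thin_restr hL hTf
  have hGc := hQ T
  -- restriction maps
  have hres : ∀ T' : Finset X, T' ⊆ T → ∃ r : restr L (subIdeal T) ⟶ restr L (subIdeal T'),
      Epi r := by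
    intro T' hT'
    have hQO : Thin (restr (Coh.structureModule X) (subIdeal T')) :=
      thin_restr hO fun η hη => hTf η (hT' hη)
    let o : restr (Coh.structureModule X) (subIdeal T') ≅ ClSub.quotMod (subIdeal T') := ProjTwist.oneTens _
    have hQ' : Thin (ClSub.quotMod (subIdeal T')) := hQO.mono o.inv
    have hS := EulerChar.shortExact_ideal (subIdeal T)
    haveI := hS.epi_g
    have hw : ClSub.idealModι (subIdeal T) ≫ ClSub.toSubscheme (subIdeal T') = 0 :=
      hQ'.hom_eq_zero _ fun η hη a => by
        rw [CohDev.stalkLin_comp_apply]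
        by_cases hηT : η ∈ T'
        · rw [stalk_idealModι_eq_zero _ hη ((mem_iff_mem_support hη).2 (hT' hηT)) a, map_zero]
        · haveI : Subsingleton ((ClSub.quotMod (subIdeal T')).presheaf.stalk η) := by
            by_contra hn
            exact hηT ((mem_iff_mem_support hη).1 (EulerChar.support_quotMod_subset _ hn))
          exact Subsingleton.elim _ _
    let r₀ := hS.exact.desc (ClSub.toSubscheme (subIdeal T')) hw
    have hr₀ : ClSub.toSubscheme (subIdeal T) ≫ r₀ = ClSub.toSubscheme (subIdeal T') :=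
      hS.exact.g_desc _ _
    refine ⟨(DCoh.tensorBi.obj L).map r₀, ?_⟩
    have e : toRestr L (subIdeal T) ≫ (DCoh.tensorBi.obj L).map r₀ = toRestr L (subIdeal T') := by
      show (DCoh.tensorBi.obj L).map _ ≫ _ = _
      rw [← Functor.map_comp, hr₀]
    haveI := hepi T'
    exact epi_of_epi_fac e
  -- sections of the kernel at the point
  set G := restr L (subIdeal T) with hGdef
  let τ : G ⟶ sky x (G.presheaf.stalk x ⧸ mSub G x) := toSky (mSub G x).mkQ
  have hsky : Coh.IsQCoh (sky x (G.presheaf.stalk x ⧸ mSub G x)) :=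
    AssSch.Quot.isQuasicoherent_sky x _ fun r hr t => ⟨1, by
      obtain ⟨t, rfl⟩ := Submodule.Quotient.mk_surjective _ t
      rw [pow_one, ← Submodule.Quotient.mk_smul]
      exact (Submodule.Quotient.mk_eq_zero _).2 (Submodule.smul_mem_smul hr trivial)⟩
  set F := kernel τ with hFdef
  let jF : F ⟶ G := kernel.ι τ
  have hFc : Coh.IsCoh F := CohDev.isCoh_kernel τ hGc hsky
  have hFm : ∀ a : F.presheaf.stalk x, stalkLin jF x a ∈ mSub G x := by
    intro a
    obtain ⟨W, hW, w, rfl⟩ := exists_germM_eq F x a
    rw [stalkLin_germ]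
    refine (Submodule.Quotient.mk_eq_zero _).1 ?_
    have h0 : (jF ≫ τ).app W w = 0 := by rw [kernel.condition]; rfl
    exact (toSky_app (mSub G x).mkQ W (jF.app W w) ⟨hW⟩).symm.trans (congrFun h0 ⟨hW⟩)
  have hFsur : ∀ z : X, z ≠ x → Function.Surjective (stalkLin jF z) := by
    intro z hz t
    obtain ⟨W, hW, w, rfl⟩ := exists_germM_eq G z t
    let W' : X.Opens := W ⊓ ⟨({x} : Set X)ᶜ, hxc.isOpen_compl⟩
    have hW' : z ∈ W' := ⟨hW, hz⟩
    obtain ⟨v, hv⟩ := AssSch.Quot.exists_kernel_app τ
      (U := W') (s := G.presheaf.map (homOfLE (inf_le_left : W' ≤ W)).op w)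
      (funext fun h => absurd rfl h.down.2)
    refine ⟨germM F W' z hW' v, ?_⟩
    rw [stalkLin_germ, hv]
    exact G.presheaf.germ_res_apply _ z hW' w
  have hlift : ∀ σ : Γ(G, ⊤), ∃ v : Γ(F, ⊤), jF.app ⊤ v = σ := fun σ =>
    AssSch.Quot.exists_kernel_app τ (funext fun h => by
      refine (toSky_app (mSub G x).mkQ ⊤ σ h).trans ?_
      exact (Submodule.Quotient.mk_eq_zero _).2 (hTb σ))
  have hxf : ¬ IsField (X.presheaf.stalk x) := fun hf => hnc x hf hxc
  have hne : ∀ η, IsField (X.presheaf.stalk η) → η ≠ x := fun η hη e => hxf (e ▸ hη)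
  have hyp : ∀ T' ⊂ T, ∀ (K : X.Modules) (j : K ⟶ F), Mono j → Coh.IsCoh K →
      (∀ η ∈ T', ∀ a, stalkLin j η a = 0) →
      (∀ η ∈ T, η ∉ T' → Function.Surjective (stalkLin j η)) → Nontrivial (Coh.HH X K 1) := by
    intro T' hT' K j hj hK hj0 hjs
    by_contra hK1
    rw [not_nontrivial_iff_subsingleton] at hK1
    obtain ⟨r, hr⟩ := hres T' hT'.subset
    have hT'f : ∀ η ∈ T', IsField (X.presheaf.stalk η) := fun η hη => hTf η (hT'.subset hη)
    have hG' : Thin (restr L (subIdeal T')) := thin_restr hL hT'f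
    have hrinj : ∀ η ∈ T', Function.Injective (stalkLin r η) := by
      intro η hη
      rw [injective_iff_map_eq_zero]
      intro u hu
      by_contra hu0
      obtain ⟨v, hv⟩ := @exists_ne _
        (nontrivial_restr hL _ ((mem_iff_mem_support (hT'f η hη)).2 hη)) 0
      obtain ⟨v', rfl⟩ := stalk_surjective r η v
      obtain ⟨c, rfl⟩ := hG.line η (hT'f η hη) u v' hu0
      exact hv (by rw [map_smul, hu, smul_zero])
    let S : ShortComplex X.Modules := ShortComplex.mk (kernel.ι r) r (kernel.condition r)
    have hS : S.ShortExact := { exact := S.exact_of_f_is_kernel (kernelIsKernel r) }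
    have hN : Coh.IsCoh (kernel r) := CohDev.isCoh_kernel r hGc (hQ T').1
    have hN' : Coh.IsCoh (kernel (jF ≫ r)) := CohDev.isCoh_kernel _ hFc (hQ T').1
    have hw : j ≫ jF ≫ r = 0 := hG'.hom_eq_zero _ fun η hη a => by
      rw [CohDev.stalkLin_comp_apply]
      by_cases h' : η ∈ T'
      · rw [hj0 η h' a, map_zero]
      · haveI := subsingleton_restr L (fun e => h' ((mem_iff_mem_support (T := T') hη).1 e))
        exact Subsingleton.elim _ _
    let l : K ⟶ kernel (jF ≫ r) := kernel.lift _ j hw
    haveI : Subsingleton (Coh.HH X (kernel (jF ≫ r)) 1) := by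
      refine (surjective_h1 k hd l hK hN' fun η hη a => ?_).subsingleton
      have e : ∀ b, stalkLin (kernel.ι (jF ≫ r)) η (stalkLin l η b) = stalkLin j η b := fun b => by
        rw [← CohDev.stalkLin_comp_apply, kernel.lift_ι]
      by_cases h' : η ∈ T'
      · refine ⟨0, CohDev.stalk_injective (kernel.ι (jF ≫ r)) η ?_⟩
        refine CohDev.stalk_injective jF η (hrinj η h' ?_)
        rw [map_zero, map_zero, map_zero, map_zero, ← CohDev.stalkLin_comp_apply,
          ← CohDev.stalkLin_comp_apply, kernel.condition]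
        obtain ⟨W, hW, w, rfl⟩ := exists_germM_eq _ η a
        rw [stalkLin_germ]
        exact (map_zero ((restr L (subIdeal T')).presheaf.germ W η hW).hom).symm
      · by_cases h : η ∈ T
        · obtain ⟨b, hb⟩ := hjs η h h' (stalkLin (kernel.ι (jF ≫ r)) η a)
          exact ⟨b, CohDev.stalk_injective (kernel.ι (jF ≫ r)) η ((e b).trans hb)⟩
        · haveI := subsingleton_restr L (fun e => h ((mem_iff_mem_support (T := T) hη).1 e))
          exact ⟨0, CohDev.stalk_injective (kernel.ι (jF ≫ r)) η (CohDev.stalk_injective jF η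
            (@Subsingleton.elim _ this _ _))⟩
    let l₂ : kernel (jF ≫ r) ⟶ kernel r := kernel.lift r (kernel.ι (jF ≫ r) ≫ jF)
      (by rw [Category.assoc]; exact kernel.condition _)
    have e₂ : l₂ ≫ kernel.ι r = kernel.ι (jF ≫ r) ≫ jF := kernel.lift_ι _ _ _
    haveI : Mono l₂ := mono_of_mono_fac e₂
    let S' : ShortComplex X.Modules :=
      ShortComplex.mk (kernel.ι (jF ≫ r)) (Abelian.factorThruImage (jF ≫ r))
        ((cancel_mono (Abelian.image.ι (jF ≫ r))).mp (by simp))
    have hl₂ : ∀ z : X, z ≠ x → Function.Surjective (stalkLin l₂ z) := by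
      intro η hη a
      obtain ⟨b, hb⟩ := hFsur η hη (stalkLin (kernel.ι r) η a)
      obtain ⟨W, hW, w, rfl⟩ := exists_germM_eq F η b
      rw [stalkLin_germ] at hb
      have hb0 : germM _ W η hW ((jF ≫ r).app W w) = 0 := by
        show germM _ W η hW (r.app W (jF.app W w)) = 0
        rw [← stalkLin_germ, hb]
        exact ((stalk_exact hS η).2.1 _).2 ⟨a, rfl⟩
      obtain ⟨W', hle, hW', hz⟩ := AssSch.Stalk.exists_res_eq_zero _ η hW _ hb0
      rw [← QCoh.app_res] at hz
      obtain ⟨v, hv⟩ := AssSch.Quot.exists_kernel_app (jF ≫ r) hz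
      refine ⟨germM _ W' η hW' v, CohDev.stalk_injective (kernel.ι r) η ?_⟩
      rw [← CohDev.stalkLin_comp_apply, e₂, CohDev.stalkLin_comp_apply, stalkLin_germ, hv, stalkLin_germ,
        ← hb]
      exact (congrArg (germM _ W' η hW') (QCoh.app_res jF hle w)).trans
        (G.presheaf.germ_res_apply _ η hW' _)
    haveI hN1 : Subsingleton (Coh.HH X (kernel r) 1) :=
      (surjective_h1 k hd l₂ hN' hN fun η hη => hl₂ η (hne η hη)).subsingleton
    by_cases hx' : x ∈ ((subIdeal T').support : Set X)
    · refine hmin T' hT' ⟨hT'f, hx', fun s => ?_⟩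
      obtain ⟨y, hy⟩ := CohLin.exists_hMap_g_eq hS ((ProperFin.h0Sec _).symm s) (Subsingleton.elim _ _)
      have hy' := congrArg (ProperFin.h0Sec (restr L (subIdeal T'))) hy
      rw [ProperFin.h0Sec_hMap, AddEquiv.apply_symm_apply] at hy'
      rw [← hy']
      show germM _ ⊤ x trivial (r.app ⊤ (ProperFin.h0Sec G y)) ∈ _
      rw [← stalkLin_germ]
      exact map_mSub r (hTb _)
    · have hG'x := subsingleton_restr L hx'
      have hC := CohDev.isCoh_cokernel l₂ hN'.1 hN
      have hsub : CohB1.support (cokernel l₂) ⊆ {x} := fun z hz => by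
        by_contra hzx
        exact CohDev.not_mem_support_cokernel l₂ (hl₂ z hzx) hz
      have hCs : topologicalKrullDim ↥(CohB1.support (cokernel l₂)) ≤ 0 :=
        DecCurve.dim_le_zero_of_closed_points (CohDev.isClosed_support hC) fun y hy => by
          rw [Set.mem_singleton_iff.1 (hsub hy)]; exact hxc
      have hT₂ : (ShortComplex.mk l₂ (cokernel.π l₂) (cokernel.condition l₂)).ShortExact :=
        { exact := ShortComplex.exact_cokernel l₂ }
      have hC0 : Subsingleton (Coh.HH X (cokernel l₂) 0) := subsingleton_of_forall_eq 0 fun c => by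
        obtain ⟨y, rfl⟩ := CohLin.exists_hMap_g_eq hT₂ c (Subsingleton.elim _ _)
        obtain ⟨v, hv⟩ := hlift ((kernel.ι r).app ⊤ (ProperFin.h0Sec (kernel r) y))
        have hz : (jF ≫ r).app ⊤ v = 0 := by
          show r.app ⊤ (jF.app ⊤ v) = 0
          rw [hv]
          have : (kernel.ι r ≫ r).app ⊤ (ProperFin.h0Sec (kernel r) y) = 0 := by
            rw [kernel.condition]; rfl
          exact this
        obtain ⟨w, hw⟩ := AssSch.Quot.exists_kernel_app (jF ≫ r) hz
        have hyw : l₂.app ⊤ w = ProperFin.h0Sec (kernel r) y :=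
          QCoh.app_injective_of_mono (kernel.ι r) ⊤ (by
            show (l₂ ≫ kernel.ι r).app ⊤ w = _
            rw [e₂]
            show jF.app ⊤ ((kernel.ι (jF ≫ r)).app ⊤ w) = _
            rw [hw, hv])
        refine (ProperFin.h0Sec (cokernel l₂)).injective ?_
        rw [map_zero, ProperFin.h0Sec_hMap]
        show (cokernel.π l₂).app ⊤ (ProperFin.h0Sec (kernel r) y) = 0
        rw [← hyw]
        have : (l₂ ≫ cokernel.π l₂).app ⊤ w = 0 := by rw [cokernel.condition]; rfl
        exact this
      have hCz : IsZero (cokernel l₂) := EulerChar.isZero_of_euler_eq_zero k hC hCs (by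
        rw [EulerChar.euler_eq_finrank_of_support k hC hCs, Module.finrank_zero_of_subsingleton]; rfl)
      haveI : Epi l₂ := Preadditive.epi_of_isZero_cokernel l₂ hCz
      have hall : ∀ a : G.presheaf.stalk x, a ∈ mSub G x := fun a => by
        obtain ⟨n, rfl⟩ := ((stalk_exact hS x).2.1 a).1 (@Subsingleton.elim _ hG'x _ _)
        obtain ⟨n', rfl⟩ := stalk_surjective l₂ x n
        show stalkLin (kernel.ι r) x (stalkLin l₂ x n') ∈ _
        rw [← CohDev.stalkLin_comp_apply, e₂, CohDev.stalkLin_comp_apply]
        exact hFm _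
      haveI := hepi T
      haveI : Module.Finite (X.presheaf.stalk x) ((CohDev.tens L (Coh.structureModule X)).presheaf.stalk x) :=
        Module.Finite.equiv eB
      haveI : Module.Finite (X.presheaf.stalk x) (G.presheaf.stalk x) :=
        Module.Finite.of_surjective (stalkLin (toRestr L (subIdeal T)) x) (stalk_surjective _ x)
      have hbot : (⊤ : Submodule (X.presheaf.stalk x) (G.presheaf.stalk x)) = ⊥ :=
        Submodule.eq_bot_of_le_smul_of_le_jacobson_bot _ ⊤ Module.Finite.fg_top (fun a _ => hall a)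
          (IsLocalRing.maximalIdeal_le_jacobson ⊥)
      obtain ⟨a, ha⟩ := @exists_ne _ (nontrivial_restr hL (subIdeal T) hxT) 0
      exact ha ((Submodule.mem_bot _).1 (hbot.le (Submodule.mem_top : a ∈ (⊤ : Submodule _ _))))
  -- the subscheme spanned by `T`
  set Z := (subIdeal T).subscheme with hZdef
  let ι := (subIdeal T).subschemeι
  letI : Z.Over (Spec (CommRingCat.of k)) := ⟨ι ≫ (X ↘ Spec (CommRingCat.of k))⟩
  haveI hZr : AlgebraicGeometry.IsReduced Z := RedSub.isReduced_vanishingIdeal _
  have hrange : Set.range ι = ((subIdeal T).support : Set X) := Scheme.IdealSheafData.range_subschemeι _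
  haveI hZne : Nonempty Z := by
    obtain ⟨z, -⟩ : x ∈ Set.range ι := hrange ▸ hxT
    exact ⟨z⟩
  haveI hZc : ConnectedSpace Z := by
    haveI : PreconnectedSpace Z := by
      refine preconnectedSpace_iff_clopen.2 fun A hA => ?_
      by_contra hA'
      push Not at hA'
      obtain ⟨B, hB, hxB, hBne⟩ : ∃ B : Set Z, IsClopen B ∧ x ∈ ι '' B ∧ B ≠ Set.univ := by
        obtain ⟨z, hz⟩ : x ∈ Set.range ι := hrange ▸ hxT
        by_cases hzA : z ∈ A
        · exact ⟨A, hA, ⟨z, hzA, hz⟩, hA'.2⟩
        · exact ⟨Aᶜ, hA.compl, ⟨z, hzA, hz⟩, fun e => hA'.1.ne_empty (Set.compl_univ_iff.1 e)⟩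
      have hBc : IsClosed (ι '' B) := ι.isClosedEmbedding.isClosedMap _ hB.1
      have hBc' : IsClosed (ι '' Bᶜ) := ι.isClosedEmbedding.isClosedMap _ hB.compl.1
      let T₁ := T.filter fun η => η ∈ ι '' B
      let T₂ := T.filter fun η => η ∈ ι '' Bᶜ
      have hdisj : ∀ η, η ∈ ι '' B → η ∈ ι '' Bᶜ → False := by
        rintro η ⟨a, ha, rfl⟩ ⟨b, hb, e⟩
        exact hb (ι.isClosedEmbedding.injective e ▸ ha)
      have hcover : ∀ η ∈ T, η ∈ ι '' B ∨ η ∈ ι '' Bᶜ := by
        intro η hη
        obtain ⟨z, hz⟩ : η ∈ Set.range ι := hrange ▸ mem_support_subIdeal.2 ⟨η, hη, specializes_rfl⟩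
        by_cases hzB : z ∈ B
        · exact Or.inl ⟨z, hzB, hz⟩
        · exact Or.inr ⟨z, hzB, hz⟩
      have hT₁ : T₁ ⊂ T := by
        refine Finset.filter_ssubset.2 ?_
        obtain ⟨b, hb⟩ := (Set.ne_univ_iff_exists_notMem _).1 hBne
        obtain ⟨η, hη, hηb⟩ := mem_support_subIdeal.1
          (hrange ▸ Set.mem_range_self b : ι b ∈ ((subIdeal T).support : Set X))
        exact ⟨η, hη, fun h1 => hdisj (ι b) (hηb.mem_closed hBc h1) ⟨b, hb, rfl⟩⟩
      have hx₁ : x ∈ ((subIdeal T₁).support : Set X) := by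
        obtain ⟨η, hη, hηx⟩ := mem_support_subIdeal.1 hxT
        rcases hcover η hη with h1 | h1
        · exact mem_support_subIdeal.2 ⟨η, Finset.mem_filter.2 ⟨hη, h1⟩, hηx⟩
        · exact (hdisj x hxB (hηx.mem_closed hBc' h1)).elim
      have hs₁ : ∀ y, y ∈ ((subIdeal T₁).support : Set X) → y ∈ ι '' B := fun y hy => by
        obtain ⟨η, hη, hηy⟩ := mem_support_subIdeal.1 hy
        exact hηy.mem_closed hBc (Finset.mem_filter.1 hη).2
      have hs₂ : ∀ y, y ∈ ((subIdeal T₂).support : Set X) → y ∈ ι '' Bᶜ := fun y hy => by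
        obtain ⟨η, hη, hηy⟩ := mem_support_subIdeal.1 hy
        exact hηy.mem_closed hBc' (Finset.mem_filter.1 hη).2
      obtain ⟨r₁, hr₁⟩ := hres T₁ hT₁.subset
      obtain ⟨r₂, hr₂⟩ := hres T₂ (Finset.filter_subset _ _)
      let φ := biprod.lift r₁ r₂
      have hφm : Mono φ := by
        refine Preadditive.mono_of_kernel_zero (hG.hom_eq_zero _ fun η hη a => ?_)
        · show stalkLin (kernel.ι φ) η a = 0
          have h0 : stalkLin φ η (stalkLin (kernel.ι φ) η a) = 0 := by
            rw [← CohDev.stalkLin_comp_apply, kernel.condition]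
            obtain ⟨W, hW, w, rfl⟩ := exists_germM_eq _ η a
            rw [stalkLin_germ]
            exact map_zero (_ : _ →+ _)
          have h1 : stalkLin r₁ η (stalkLin (kernel.ι φ) η a) = 0 := by
            rw [← biprod.lift_fst r₁ r₂, CohDev.stalkLin_comp_apply, h0, map_zero]
          have h2 : stalkLin r₂ η (stalkLin (kernel.ι φ) η a) = 0 := by
            rw [← biprod.lift_snd r₁ r₂, CohDev.stalkLin_comp_apply, h0, map_zero]
          by_cases hηT : η ∈ T
          · have key : ∀ (T' : Finset X) (r : G ⟶ restr L (subIdeal T')), Epi r → η ∈ T' →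
                ∀ u, stalkLin r η u = 0 → u = 0 := by
              intro T' r hr hη' u hu
              by_contra hu0
              obtain ⟨v, hv⟩ := @exists_ne _ (nontrivial_restr hL _ ((mem_iff_mem_support hη).2 hη')) 0
              obtain ⟨v', rfl⟩ := stalk_surjective r η v
              obtain ⟨c, rfl⟩ := hG.line η hη u v' hu0
              exact hv (by rw [map_smul, hu, smul_zero])
            rcases hcover η hηT with h | h
            · exact key T₁ r₁ hr₁ (Finset.mem_filter.2 ⟨hηT, h⟩) _ h1
            · exact key T₂ r₂ hr₂ (Finset.mem_filter.2 ⟨hηT, h⟩) _ h2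
          · haveI := subsingleton_restr L (fun e => hηT ((mem_iff_mem_support (T := T) hη).1 e))
            exact @Subsingleton.elim _ this _ _
      haveI := hφm
      have hφe : Epi φ := by
        refine Preadditive.epi_of_isZero_cokernel φ (CohDev.isZero_of_support_eq_empty
          (Set.eq_empty_iff_forall_notMem.2 fun z => CohDev.not_mem_support_cokernel φ fun t => ?_))
        have ht : t = stalkLin biprod.inl z (stalkLin biprod.fst z t) +
            stalkLin biprod.inr z (stalkLin biprod.snd z t) := by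
          obtain ⟨W, hW, w, rfl⟩ := exists_germM_eq _ z t
          rw [stalkLin_germ, stalkLin_germ, stalkLin_germ, stalkLin_germ, ← map_add]
          refine congrArg (germM _ W z hW) ?_
          exact (congrArg (fun ψ : restr L (subIdeal T₁) ⊞ restr L (subIdeal T₂) ⟶ _ => ψ.app W w)
            biprod.total).symm
        by_cases hz : z ∈ ι '' B
        · haveI := subsingleton_restr L (fun e => hdisj z hz (hs₂ z e))
          obtain ⟨a, ha⟩ := stalk_surjective r₁ z (stalkLin biprod.fst z t)
          refine ⟨a, ?_⟩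
          have e1 : stalkLin biprod.fst z (stalkLin φ z a) = stalkLin biprod.fst z t := by
            rw [← CohDev.stalkLin_comp_apply, biprod.lift_fst, ha]
          have ht' : ∀ s, s = stalkLin biprod.inl z (stalkLin biprod.fst z s) +
              stalkLin biprod.inr z (stalkLin biprod.snd z s) := fun s => by
            obtain ⟨W, hW, w, rfl⟩ := exists_germM_eq _ z s
            rw [stalkLin_germ, stalkLin_germ, stalkLin_germ, stalkLin_germ, ← map_add]
            refine congrArg (germM _ W z hW) ?_
            exact (congrArg (fun ψ : restr L (subIdeal T₁) ⊞ restr L (subIdeal T₂) ⟶ _ => ψ.app W w)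
              biprod.total).symm
          rw [ht, ht' (stalkLin φ z a), e1]
          exact congrArg (stalkLin biprod.inl z (stalkLin biprod.fst z t) + stalkLin biprod.inr z ·)
            (@Subsingleton.elim _ this _ _)
        · haveI := subsingleton_restr L (fun e => hz (hs₁ z e))
          obtain ⟨a, ha⟩ := stalk_surjective r₂ z (stalkLin biprod.snd z t)
          refine ⟨a, ?_⟩
          have e1 : stalkLin biprod.snd z (stalkLin φ z a) = stalkLin biprod.snd z t := by
            rw [← CohDev.stalkLin_comp_apply, biprod.lift_snd, ha]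
          have ht' : ∀ s, s = stalkLin biprod.inl z (stalkLin biprod.fst z s) +
              stalkLin biprod.inr z (stalkLin biprod.snd z s) := fun s => by
            obtain ⟨W, hW, w, rfl⟩ := exists_germM_eq _ z s
            rw [stalkLin_germ, stalkLin_germ, stalkLin_germ, stalkLin_germ, ← map_add]
            refine congrArg (germM _ W z hW) ?_
            exact (congrArg (fun ψ : restr L (subIdeal T₁) ⊞ restr L (subIdeal T₂) ⟶ _ => ψ.app W w)
              biprod.total).symm
          rw [ht, ht' (stalkLin φ z a), e1]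
          exact congrArg (stalkLin biprod.inl z · + stalkLin biprod.inr z (stalkLin biprod.snd z t))
            (@Subsingleton.elim _ this _ _)
      haveI := hφe
      haveI := isIso_of_mono_of_epi φ
      refine hmin T₁ hT₁ ⟨fun η hη => hTf η (hT₁.subset hη), hx₁, fun s => ?_⟩
      let σ := (biprod.inl ≫ inv φ).app ⊤ s
      have hσ : r₁.app ⊤ σ = s := by
        show ((biprod.inl ≫ inv φ) ≫ r₁).app ⊤ s = s
        rw [show (biprod.inl ≫ inv φ) ≫ r₁ = 𝟙 _ by
          rw [← biprod.lift_fst r₁ r₂, Category.assoc, IsIso.inv_hom_id_assoc, biprod.inl_fst]]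
        rfl
      rw [← hσ, ← stalkLin_germ]
      exact map_mSub _ (hTb σ)
    exact { toNonempty := hZne }
  have hZdim : topologicalKrullDim Z = 1 := by
    refine le_antisymm (ι.isEmbedding.isInducing.topologicalKrullDim_le.trans hd) ?_
    obtain ⟨η, hη, -⟩ := mem_support_subIdeal.1 hxT
    obtain ⟨z, rfl⟩ : η ∈ Set.range ι := hrange ▸ mem_support_subIdeal.2 ⟨η, hη, specializes_rfl⟩
    have hzc : ¬ IsClosed ({z} : Set Z) := fun hc => hnc _ (hTf _ hη) (by
      simpa using ι.isClosedEmbedding.isClosedMap _ hc)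
    obtain ⟨w, hw, hwz⟩ : ∃ w ∈ closure ({z} : Set Z), w ≠ z := by
      by_contra hh
      push Not at hh
      exact hzc (subset_antisymm hh subset_closure ▸ isClosed_closure)
    let c : Z → IrreducibleCloseds Z := fun z =>
      ⟨closure {z}, isIrreducible_singleton.closure, isClosed_closure⟩
    let ser : LTSeries (IrreducibleCloseds Z) :=
      LTSeries.mk 1 ![c w, c z] (Fin.strictMono_iff_lt_succ.2 fun i => by
        fin_cases i
        refine lt_of_le_of_ne (show closure {w} ⊆ closure {z} from
          (specializes_iff_mem_closure.2 hw).closure_subset) fun h => hwz ?_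
        exact (inseparable_iff_closure_eq.2 (congrArg (fun s : IrreducibleCloseds Z => (s : Set Z)) h)).eq)
    exact (Order.LTSeries.length_le_krullDim ser :)
  have hdeg : 2 * (Curv2.genus k Z : ℤ) ≤ Curv2.deg k Z ((Scheme.Modules.pullback ι).obj L) 1 :=
    h (subIdeal T) hZr hZc hZdim
  -- Euler characteristics
  let M := (Scheme.Modules.pullback ι).obj L
  haveI : IsLocallyNoetherian Z := LocallyOfFiniteType.isLocallyNoetherian ι
  haveI : IsProper (Z ↘ Spec (CommRingCat.of k)) := inferInstanceAs (IsProper (ι ≫ _))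
  have hM := PicCl.isInvertible_pullback ι hL
  have hMq : Coh.IsQCoh M := (VBLib.isCoh_of_ofRank (ProjTwist.isFinLocFreeOfRank_one hM)).1
  have hZO := VBLib.isCoh_of_ofRank
    (ProjTwist.isFinLocFreeOfRank_one (PicLoc.isInvertible_structureModule Z))
  have hχG : Curv2.euler k X G = Curv2.euler k Z M := by
    rw [hGdef, EulerChar.euler_iso k (EulerChar.tensQuotIso ι L), EulerChar.euler_push ι rfl M hMq]
  have hg : Module.finrank k (Coh.HH X (ClSub.quotMod (subIdeal T)) 1) = Curv2.genus k Z :=
    (EulerChar.nonempty_pushEquiv ι rfl (Coh.structureModule Z) hZO.1 1).some.finrank_eq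
  have he2 : ∀ N : Z.Modules, Curv2.euler k Z N =
      (Module.finrank k (Coh.HH Z N 0) : ℤ) - Module.finrank k (Coh.HH Z N 1) := fun N => by
    haveI := EulerChar.isNoetherian k (X := Z)
    haveI : NoetherianSpace Z.toTopCat := inferInstanceAs (NoetherianSpace Z)
    rw [EulerChar.euler_eq_sum k (fun n hn => CohTop.Vanishing.grothendieck_vanishing (X := Z.toTopCat) 1
      hZdim.le (Coh.toAb N) n (show 1 < n from hn))]
    simp [Finset.sum_range_succ]
    ring
  have hO0 : 0 < Module.finrank k (Coh.HH Z (Coh.structureModule Z) 0) := by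
    haveI := EulerChar.finite_HH k (Coh.structureModule Z) hZO 0
    haveI : Nontrivial Γ(Coh.structureModule Z, ⊤) := by
      obtain ⟨z⟩ := hZne
      exact (Z.presheaf.germ ⊤ z trivial).hom.domain_nontrivial
    haveI : Nontrivial (Coh.HH Z (Coh.structureModule Z) 0) :=
      (ProperFin.h0Sec (Coh.structureModule Z)).symm.injective.nontrivial
    exact Module.finrank_pos
  have hGh : Curv2.euler k X G ≤ Module.finrank k (Coh.HH X G 0) := DecCurve.euler_le_h0 k hd G
  have hFG : Module.finrank k (Coh.HH X G 0) ≤ Module.finrank k (Coh.HH X F 0) := by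
    haveI := EulerChar.finite_HH k F hFc 0
    have hs : Function.Surjective (CohLin.overLin k (CohLin.hMap jF 0)) := fun c => by
      obtain ⟨v, hv⟩ := hlift (ProperFin.h0Sec G c)
      refine ⟨(ProperFin.h0Sec F).symm v, (ProperFin.h0Sec G).injective ?_⟩
      show ProperFin.h0Sec G (CohLin.hMap jF 0 _) = _
      rw [ProperFin.h0Sec_hMap, AddEquiv.apply_symm_apply, hv]
    have := LinearMap.finrank_range_le (CohLin.overLin k (CohLin.hMap jF 0))
    rwa [LinearMap.range_eq_top.2 hs, finrank_top] at this
  have hmain := h0_add_rank_le k hd T hTf F hFc (hG.mono jF)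
    (fun η hη hne' => by
      haveI := subsingleton_restr L (fun e => hne' ((mem_iff_mem_support (T := T) hη).1 e))
      exact (CohDev.stalk_injective jF η).subsingleton)
    hyp (ClSub.idealMod (subIdeal T)) (ClSub.idealModι (subIdeal T)) (isCoh_idealMod k _)
    fun η hη a => stalk_idealModι_eq_zero _ (hTf η hη) ((mem_iff_mem_support (hTf η hη)).2 hη) a
  have hgen := h1_quotMod_add k hd (subIdeal T)
  rw [hg] at hgen
  rw [Curv2.deg, ← hχG, he2 (Coh.structureModule Z)] at hdeg
  simp only [Curv2.genus] at hdeg hgen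
  simp only [Curv2.genus] at hmain
  push_cast at hdeg
  omega

include k in
/-- The criterion. -/
theorem isGloballyGenerated [ConnectedSpace X] (hdim : topologicalKrullDim X = 1) {L : X.Modules}
    (hL : PicF.IsInvertible L)
    (h : ∀ J : X.IdealSheafData, AlgebraicGeometry.IsReduced J.subscheme → ConnectedSpace J.subscheme →
      topologicalKrullDim J.subscheme = 1 →
      2 * (@Curv2.genus k _ J.subscheme ⟨J.subschemeι ≫ (X ↘ Spec (CommRingCat.of k))⟩ : ℤ) ≤
        @Curv2.deg k _ J.subscheme ⟨J.subschemeι ≫ (X ↘ Spec (CommRingCat.of k))⟩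
          ((Scheme.Modules.pullback J.subschemeι).obj L) 1) :
    Curv2.IsGloballyGenerated L :=
  CMReg.isGloballyGenerated_iso
    (show CohDev.tens L (Coh.structureModule X) ≅ L from ProjTwist.tensOne L)
    (Props.AmpleGG.isGloballyGenerated_of_genLocus fun y => by
      haveI := EulerChar.compactSpace k (X := X)
      obtain ⟨x, hx, hxc⟩ := (isClosed_closure : IsClosed (closure ({y} : Set X))).exists_closed_singleton
        ⟨y, subset_closure rfl⟩
      obtain ⟨s, hs⟩ := exists_genLocus k hdim hL h x hxc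
      exact ⟨s, (specializes_iff_mem_closure.2 hx).mem_open (CohB1.genLocus _ s).isOpen hs⟩)

end coh

end Groth.Agent.CurveRed
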