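import Groth.Agent.CurveRed.Deg
import Groth.Agent.S7642
import Groth.Agent.EulerChar.CurvePoint
import Groth.Agent.NumTriv.Union
import Groth.Agent.LiftLib.TowerEmbed
import Groth.Agent.CartDiv.Local
import Groth.Agent.Wt.AmpleThick
import Groth.Agent.PicLaw.Basic
import Groth.Agent.Props.NormalCM
import Groth.Agent.NegVan.Twist
import Groth.Agent.EGA4Lib.HomToLocal
import Groth.Agent.S1561
import Groth.Agent.CurveRed.GlobGen

/-!
# An ample invertible module of degree the number of components on a reduced proper curve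
-/

universe u

open CategoryTheory CategoryTheory.Limits AlgebraicGeometry TopologicalSpace
open Groth.Agent.Props.GenLocus Groth.Agent.PullStalk.Sky Groth.Agent.PullStalk.Exact

set_option linter.style.haveILetI false
set_option linter.unusedSectionVars false
set_option synthInstance.maxHeartbeats 200000
set_option maxHeartbeats 1000000

noncomputable section

namespace Groth.Agent.CurveRed

variable {X : Scheme.{u}} (k : Type u) [Field k] [X.Over (Spec (CommRingCat.of k))]
  [IsProper (X ↘ Spec (CommRingCat.of k))]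

/-- The degree of the restriction to a closed subscheme. -/
abbrev cdeg (L : X.Modules) (J : X.IdealSheafData) : ℤ :=
  @Curv2.deg k _ J.subscheme ⟨J.subschemeι ≫ (X ↘ Spec (CommRingCat.of k))⟩
    ((Scheme.Modules.pullback J.subschemeι).obj L) 1

include k in
theorem cdeg_tens (hdim : topologicalKrullDim X ≤ 1) {L M : X.Modules} (hL : PicF.IsInvertible L)
    (hM : PicF.IsInvertible M) (J : X.IdealSheafData) :
    cdeg k (CohB1.tensorMod L M) J = cdeg k L J + cdeg k M J := by
  letI : J.subscheme.Over (Spec (CommRingCat.of k)) := ⟨J.subschemeι ≫ (X ↘ Spec (CommRingCat.of k))⟩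
  haveI : IsProper (J.subscheme ↘ Spec (CommRingCat.of k)) :=
    inferInstanceAs (IsProper (J.subschemeι ≫ _))
  obtain ⟨e⟩ := PicLaw.pullback_tensor J.subschemeι hL hM
  have h := EulerChar.deg_tens k (ProjTwist.isFinLocFreeOfRank_one (PicCl.isInvertible_pullback J.subschemeι hL))
    (J.subschemeι.isEmbedding.isInducing.topologicalKrullDim_le.trans hdim)
    (ProjTwist.isFinLocFreeOfRank_one (PicCl.isInvertible_pullback J.subschemeι hM))
  show Curv2.deg k J.subscheme _ 1 = Curv2.deg k J.subscheme _ 1 + Curv2.deg k J.subscheme _ 1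
  rw [Curv2.deg, EulerChar.euler_iso k e, ← Curv2.deg]
  simp only [one_mul, Nat.cast_one] at h
  exact h.trans (add_comm _ _)

include k in
theorem cdeg_structure (J : X.IdealSheafData) : cdeg k (Coh.structureModule X) J = 0 := by
  letI : J.subscheme.Over (Spec (CommRingCat.of k)) := ⟨J.subschemeι ≫ (X ↘ Spec (CommRingCat.of k))⟩
  haveI : IsProper (J.subscheme ↘ Spec (CommRingCat.of k)) :=
    inferInstanceAs (IsProper (J.subschemeι ≫ _))
  show Curv2.deg k J.subscheme _ 1 = 0
  rw [Curv2.deg, EulerChar.euler_iso k (LiftLib.TowerEmbed.nonempty_pullback_structureModule J.subschemeι).some]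
  simp

include k in
theorem cdeg_pow (hdim : topologicalKrullDim X ≤ 1) {L : X.Modules} (hL : PicF.IsInvertible L)
    (J : X.IdealSheafData) : ∀ n : ℕ, cdeg k (CohB1.tensorPow L n) J = n * cdeg k L J
  | 0 => by rw [Nat.cast_zero, zero_mul]; exact cdeg_structure k J
  | n + 1 => by
    show cdeg k (CohB1.tensorMod (CohB1.tensorPow L n) L) J = _
    rw [cdeg_tens k hdim (AmpleLib.isInvertible_tensorPow hL n) hL, cdeg_pow hdim hL J n]
    push_cast
    ring

include k in
theorem deg_pow (hdim : topologicalKrullDim X ≤ 1) {L : X.Modules} (hL : PicF.IsInvertible L) :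
    ∀ n : ℕ, Curv2.deg k X (CohB1.tensorPow L n) 1 = n * Curv2.deg k X L 1
  | 0 => by
    show Curv2.deg k X (Coh.structureModule X) 1 = _
    simp [Curv2.deg]
  | n + 1 => by
    have h := EulerChar.deg_tens k (ProjTwist.isFinLocFreeOfRank_one (AmpleLib.isInvertible_tensorPow hL n))
      hdim (ProjTwist.isFinLocFreeOfRank_one hL)
    simp only [one_mul, Nat.cast_one] at h
    show Curv2.deg k X (CohB1.tensorMod (CohB1.tensorPow L n) L) 1 = _
    rw [show Curv2.deg k X (CohB1.tensorMod (CohB1.tensorPow L n) L) 1 = _ from h, deg_pow hdim hL n]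
    push_cast
    ring

/-- A reduced proper curve over a perfect field has in each component a regular closed point off the
other components. -/
theorem exists_point [PerfectField k] [AlgebraicGeometry.IsReduced X] [ConnectedSpace X]
    (hdim : topologicalKrullDim X = 1) {η : X} (hη : IsField (X.presheaf.stalk η)) :
    ∃ p : X, IsClosed ({p} : Set X) ∧ p ∈ closure ({η} : Set X) ∧
      (∀ η' : X, IsField (X.presheaf.stalk η') → p ∈ closure ({η'} : Set X) → η' = η) ∧
      ∃ ϖ : X.presheaf.stalk p, ϖ ∈ nonZeroDivisors _ ∧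
        IsLocalRing.maximalIdeal (X.presheaf.stalk p) = Ideal.span {ϖ} := by
  haveI := EulerChar.isNoetherian k (X := X)
  haveI : LocallyOfFinitePresentation (X ↘ Spec (CommRingCat.of k)) := inferInstance
  haveI : JacobsonSpace X := LocallyOfFiniteType.jacobsonSpace (X ↘ Spec (CommRingCat.of k))
  have hfin : {η : X | IsField (X.presheaf.stalk η)}.Finite :=
    (DecCurve.finite_not_closed k hdim.le).subset fun η hη => not_closed_of_field hdim hη
  let Z : Set X := ⋃ η' ∈ {η' : X | IsField (X.presheaf.stalk η') ∧ η' ≠ η}, closure ({η'} : Set X)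
  have hZ : IsClosed Z :=
    (hfin.subset fun _ h => h.1).isClosed_biUnion fun _ _ => isClosed_closure
  have hηZ : η ∉ Z := fun h => by
    obtain ⟨η', ⟨_, hne⟩, h'⟩ := Set.mem_iUnion₂.1 h
    exact hne (eq_of_specializes_field hη (specializes_iff_mem_closure.2 h'))
  obtain ⟨hiff, hdense⟩ := Groth.Agent.S1561.result k X
  obtain ⟨y, hy, hyZ⟩ := hdense.inter_open_nonempty _ hZ.isOpen_compl ⟨η, hηZ⟩
  obtain ⟨p, ⟨hp, hpZ⟩, hpc⟩ := nonempty_inter_closedPoints (X := X)
    (Z := ((X ↘ Spec (CommRingCat.of k)).smoothLocus : Set X) ∩ Zᶜ) ⟨y, hyZ, hy⟩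
    (((X ↘ Spec (CommRingCat.of k)).smoothLocus.isOpen.inter hZ.isOpen_compl).isLocallyClosed)
  have hgen : ∃ η' : X, IsField (X.presheaf.stalk η') ∧ p ∈ closure ({η'} : Set X) := by
    have hC := irreducibleComponent_mem_irreducibleComponents p
    have hgp := hC.1.isGenericPoint_genericPoint_closure
    rw [(isClosed_of_mem_irreducibleComponents _ hC).closure_eq] at hgp
    exact ⟨hC.1.genericPoint, isField_of_maximal (EulerChar.genericPoint_maximal hC hgp),
      hgp.def.symm ▸ mem_irreducibleComponent⟩
  have honly : ∀ η' : X, IsField (X.presheaf.stalk η') → p ∈ closure ({η'} : Set X) → η' = η :=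
    fun η' h1 h2 => by
      by_contra hne
      exact hpZ (Set.mem_iUnion₂.2 ⟨η', ⟨h1, hne⟩, h2⟩)
  obtain ⟨η', h1, h2⟩ := hgen
  obtain rfl := honly η' h1 h2
  haveI := (hiff p).1 hp
  haveI : IsDomain (X.presheaf.stalk p) :=
    (EGA4Lib.isDomain_isIC_of_isRegularLocalRing (X.presheaf.stalk p)).1
  have hnf : ¬ IsField (X.presheaf.stalk p) := fun h => not_closed_of_field hdim h hpc
  have hd1 : ringKrullDim (X.presheaf.stalk p) = 1 := by
    refine le_antisymm ((Props.NormalCM.ringKrullDim_stalk_le X p).trans hdim.le) ?_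
    have h0 : ¬ ringKrullDim (X.presheaf.stalk p) ≤ 0 := fun h => hnf (by
      haveI : Ring.KrullDimLE 0 (X.presheaf.stalk p) := Ring.krullDimLE_iff.2 (by simpa using h)
      exact Ring.KrullDimLE.isField_of_isReduced)
    revert h0
    generalize ringKrullDim (X.presheaf.stalk p) = d
    cases d with
    | bot => intro h0; exact absurd bot_le h0
    | coe a =>
      intro h0
      refine WithBot.coe_le_coe.2 (Order.one_le_iff_pos.2 (pos_iff_ne_zero.2 fun e => h0 (by rw [e]; rfl)))
  haveI := CurveDVR.isDiscreteValuationRing_of_regular _ hd1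
  obtain ⟨ϖ, hϖ⟩ := IsDiscreteValuationRing.exists_irreducible (X.presheaf.stalk p)
  exact ⟨p, hpc, h2, honly, ϖ, mem_nonZeroDivisors_of_ne_zero hϖ.ne_zero, hϖ.maximalIdeal_eq⟩

/-- The ideal of a closed point with free maximal ideal is effective Cartier. -/
theorem isEffCartier_closedPoint [IsLocallyNoetherian X] {x : X} (hx : IsClosed ({x} : Set X))
    (hp : ∃ ϖ : X.presheaf.stalk x, ϖ ∈ nonZeroDivisors _ ∧
      IsLocalRing.maximalIdeal (X.presheaf.stalk x) = Ideal.span {ϖ}) :
    BlowUp.IsEffCartierIdeal (IntMult.ptIdeal x) := by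
  refine CartDiv.Local.isEffCartier_of_stalks _ fun y hy U hyU => ?_
  obtain rfl : y = x := by
    rw [← SetLike.mem_coe, CohDev.coe_support_ptIdeal, hx.closure_eq] at hy
    exact hy
  letI := X.presheaf.algebra_section_stalk ⟨y, hyU⟩
  haveI := U.2.isLocalization_stalk ⟨y, hyU⟩
  obtain ⟨ϖ, hϖ0, hϖ⟩ := hp
  refine ⟨ϖ, hϖ0, ?_⟩
  rw [CohDev.ideal_ptIdeal y hyU]
  exact (IsLocalization.AtPrime.map_eq_maximalIdeal (U.2.primeIdealOf ⟨y, hyU⟩).asIdeal
    (X.presheaf.stalk y)).trans hϖ

include k in
/-- Global functions of a point. -/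
theorem finrank_quotMod_point [IsAlgClosed k] (x : X) :
    Module.finrank k (Coh.HH X (ClSub.quotMod (IntMult.ptIdeal x)) 0) = 1 := by
  let D := IntMult.ptIdeal x
  haveI : IsIntegral D.subscheme :=
    Groth.Agent.S16188.isIntegral_subscheme _ isIrreducible_singleton.closure
  letI : D.subscheme.Over (Spec (CommRingCat.of k)) := ⟨D.subschemeι ≫ (X ↘ Spec (CommRingCat.of k))⟩
  haveI : IsProper (D.subscheme ↘ Spec (CommRingCat.of k)) :=
    inferInstanceAs (IsProper (D.subschemeι ≫ (X ↘ Spec (CommRingCat.of k))))
  obtain ⟨e⟩ := EulerChar.nonempty_pushEquiv D.subschemeι (A := k) rfl (Coh.structureModule D.subscheme)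
    (ProjTwist.isQuasicoherent_structureModule D.subscheme) 0
  exact e.finrank_eq.trans (VBLib.finrank_H0_structure_eq_one VBLib.bijective_toGlobal_of_isAlgClosed)

include k in
/-- The inverse of the ideal of such a point: degree one, trivial on components missing the point. -/
theorem exists_pointModule [IsAlgClosed k] (hdim : topologicalKrullDim X ≤ 1) {x : X}
    (hx : IsClosed ({x} : Set X))
    (hp : ∃ ϖ : X.presheaf.stalk x, ϖ ∈ nonZeroDivisors _ ∧
      IsLocalRing.maximalIdeal (X.presheaf.stalk x) = Ideal.span {ϖ}) :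
    ∃ M : X.Modules, PicF.IsInvertible M ∧ Curv2.deg k X M 1 = 1 ∧
      ∀ J : X.IdealSheafData, x ∉ (J.support : Set X) → cdeg k M J = 0 := by
  haveI := EulerChar.isNoetherian k (X := X)
  have hD := isEffCartier_closedPoint hx hp
  have hI := IdealSh.IdealMod.isInvertible_of_isEffCartierIdeal _ hD
  obtain ⟨M, hM, ⟨e⟩⟩ := PicLaw.exists_inverse hI
  let e' : CohB1.tensorMod M (ClSub.idealMod (IntMult.ptIdeal x)) ≅ Coh.structureModule X :=
    ProjTwist.tensComm M (ClSub.idealMod (IntMult.ptIdeal x)) ≪≫ e
  refine ⟨M, hM, ?_, fun J hJ => ?_⟩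
  · rw [EulerChar.deg_inverse_ideal _ k hdim hD hM e', finrank_quotMod_point k x]
    rfl
  · letI : J.subscheme.Over (Spec (CommRingCat.of k)) := ⟨J.subschemeι ≫ (X ↘ Spec (CommRingCat.of k))⟩
    haveI : IsProper (J.subscheme ↘ Spec (CommRingCat.of k)) :=
      inferInstanceAs (IsProper (J.subschemeι ≫ _))
    let ι := J.subschemeι
    let F := Scheme.Modules.pullback ι
    let f := ClSub.idealModι (IntMult.ptIdeal x)
    have hS := EulerChar.shortExact_ideal (IntMult.ptIdeal x)
    haveI : Epi (F.map f) := by
      refine Preadditive.epi_of_isZero_cokernel _ ?_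
      refine IsZero.of_iso ?_ ((asIso (cokernelComparison f F)) )
      refine IsZero.of_iso ?_ (F.mapIso ((cokernelIsCokernel f).coconePointUniqueUpToIso hS.gIsCokernel))
      refine NumTriv.Union.isZero_pullback_push (IntMult.ptIdeal x).subschemeι ι ?_ _
      rw [Scheme.IdealSheafData.range_subschemeι, Scheme.IdealSheafData.range_subschemeι,
        CohDev.coe_support_ptIdeal, hx.closure_eq]
      exact Set.disjoint_singleton_right.2 hJ
    haveI := LiftLib.TowerEmbed.isIso_of_epi_invertible (PicCl.isInvertible_pullback ι hI)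
      (PicCl.isInvertible_pullback ι (PicLoc.isInvertible_structureModule X)) (F.map f)
    have h1 : cdeg k (ClSub.idealMod (IntMult.ptIdeal x)) J = 0 := by
      have h0 := cdeg_structure k J
      show Curv2.deg k J.subscheme (F.obj (ClSub.idealMod (IntMult.ptIdeal x))) 1 = 0
      rw [Curv2.deg, EulerChar.euler_iso k (asIso (F.map f)), ← Curv2.deg]
      exact h0
    have h2 := cdeg_tens k hdim hM hI J
    rw [h1, add_zero] at h2
    refine h2.symm.trans ?_
    show Curv2.deg k J.subscheme (F.obj _) 1 = 0
    rw [Curv2.deg, EulerChar.euler_iso k (F.mapIso e'), ← Curv2.deg]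
    exact cdeg_structure k J

include k in
/-- An invertible module of degree one on every component. -/
theorem exists_small_ample [IsAlgClosed k] [AlgebraicGeometry.IsReduced X] [ConnectedSpace X]
    (hdim : topologicalKrullDim X = 1) :
    ∃ M : X.Modules, PicF.IsInvertible M ∧ CohB1.IsAmple M ∧
      Curv2.deg k X M 1 ≤ ((irreducibleComponents (X : Type u)).ncard : ℤ) := by
  classical
  haveI := EulerChar.isNoetherian k (X := X)
  have hd := hdim.le
  have hfin : {η : X | IsField (X.presheaf.stalk η)}.Finite :=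
    (DecCurve.finite_not_closed k hd).subset fun η hη => not_closed_of_field hdim hη
  have hsupp : ∀ η : X, ((IntMult.ptIdeal η).support : Set X) = closure {η} :=
    fun η => CohDev.coe_support_ptIdeal η
  have hgen : ∀ Z : irreducibleComponents (X : Type u), IsGenericPoint Z.2.1.genericPoint Z.1 := fun Z => by
    have h := Z.2.1.isGenericPoint_genericPoint_closure
    rwa [(isClosed_of_mem_irreducibleComponents Z.1 Z.2).closure_eq] at h
  have hcomp : ∀ η : X, IsField (X.presheaf.stalk η) → closure ({η} : Set X) ∈ irreducibleComponents (X : Type u) := by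
    intro η hη
    have hC := irreducibleComponent_mem_irreducibleComponents η
    have hg := hgen ⟨_, hC⟩
    rw [← eq_of_specializes_field hη (hg.specializes mem_irreducibleComponent), hg.def]
    exact hC
  -- the contribution of one point
  have one : ∀ η : X, IsField (X.presheaf.stalk η) → ∃ M : X.Modules, PicF.IsInvertible M ∧
      Curv2.deg k X M 1 = 1 ∧ ∀ η' : X, IsField (X.presheaf.stalk η') →
        cdeg k M (IntMult.ptIdeal η') = if η' = η then 1 else 0 := by
    intro η hη
    obtain ⟨p, hpc, hpη, honly, hp⟩ := exists_point k hdim hη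
    obtain ⟨M, hM, hdeg, hzero⟩ := exists_pointModule k hd hpc hp
    have hz : ∀ η' : X, IsField (X.presheaf.stalk η') → η' ≠ η → cdeg k M (IntMult.ptIdeal η') = 0 :=
      fun η' h' hne => hzero _ fun h => hne (honly η' h' (hsupp η' ▸ h))
    refine ⟨M, hM, hdeg, fun η' h' => ?_⟩
    split_ifs with he
    · subst he
      have hs := EulerChar.deg_eq_sum k hd (ProjTwist.isFinLocFreeOfRank_one hM)
      rw [hdeg, finsum_eq_single _ ⟨closure {η'}, hcomp η' hη⟩] at hs
      · have hg : (hcomp η' hη).1.genericPoint = η' :=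
          (hgen ⟨_, hcomp η' hη⟩).eq (isGenericPoint_closure)
        have hlen : Module.length (X.presheaf.stalk (hcomp η' hη).1.genericPoint)
            (X.presheaf.stalk (hcomp η' hη).1.genericPoint) = 1 := by
          rw [hg]
          letI := hη.toField
          haveI : IsSimpleModule (X.presheaf.stalk η') (X.presheaf.stalk η') := inferInstance
          exact Module.length_eq_one _ _
        rw [hlen] at hs
        split_ifs at hs with hZ
        · rw [EulerChar.radical_componentIdeal (hcomp η' hη) (ξ := η') isGenericPoint_closure] at hs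
          simpa using hs.symm
        · exact absurd hs one_ne_zero
      · intro Z hZ
        have hne : Z.2.1.genericPoint ≠ η' := fun e => hZ (Subtype.ext (by rw [← (hgen Z).def, e]))
        split_ifs
        · rw [EulerChar.radical_componentIdeal Z.2 (hgen Z)]
          have h0 := hz _ (isField_of_maximal (EulerChar.genericPoint_maximal Z.2 (hgen Z))) hne
          simp only [cdeg] at h0
          rw [h0, mul_zero]
        · rfl
    · exact hz η' h' he
  choose P hP hPdeg hPc using one
  have all : ∀ S : Finset X, (∀ η ∈ S, IsField (X.presheaf.stalk η)) → ∃ M : X.Modules, PicF.IsInvertible M ∧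
      Curv2.deg k X M 1 = S.card ∧ ∀ η' : X, IsField (X.presheaf.stalk η') →
        cdeg k M (IntMult.ptIdeal η') = if η' ∈ S then 1 else 0 := by
    intro S
    induction S using Finset.induction_on with
    | empty =>
      intro _
      refine ⟨Coh.structureModule X, PicLoc.isInvertible_structureModule X, by simp [Curv2.deg],
        fun η' _ => by simpa using cdeg_structure k _⟩
    | @insert a S ha ih =>
      intro hS
      obtain ⟨M, hM, hMd, hMc⟩ := ih fun η h => hS η (Finset.mem_insert_of_mem h)
      have hfa := hS a (Finset.mem_insert_self a S)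
      refine ⟨CohB1.tensorMod M (P a hfa), AmpleLib.isInvertible_tensorMod hM (hP a hfa), ?_, fun η' h' => ?_⟩
      · have h := EulerChar.deg_tens k (ProjTwist.isFinLocFreeOfRank_one hM) hd
          (ProjTwist.isFinLocFreeOfRank_one (hP a hfa))
        simp only [one_mul, Nat.cast_one] at h
        rw [show Curv2.deg k X (CohB1.tensorMod M (P a hfa)) 1 = _ from h, hPdeg a hfa, hMd,
          Finset.card_insert_of_notMem ha]
        push_cast
        ring
      · rw [cdeg_tens k hd hM (hP a hfa), hMc η' h', hPc a hfa η' h']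
        by_cases he : η' = a
        · subst he; simp [ha]
        · simp [he]
  obtain ⟨M, hM, hMd, hMc⟩ := all hfin.toFinset fun η h => hfin.mem_toFinset.1 h
  refine ⟨M, hM, (S7642.result k X hd M hM).2 fun C hC _ => ?_, ?_⟩
  · rw [EulerChar.radical_componentIdeal hC (hgen ⟨C, hC⟩)]
    have hf := isField_of_maximal (EulerChar.genericPoint_maximal hC (hgen ⟨C, hC⟩))
    show 0 < cdeg k M (IntMult.ptIdeal hC.1.genericPoint)
    rw [hMc _ hf, if_pos (hfin.mem_toFinset.2 hf)]
    exact one_pos
  · rw [hMd, ← Set.ncard_coe_finset, Nat.cast_le]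
    refine Set.ncard_le_ncard_of_injOn (fun η => closure ({η} : Set X))
      (fun η h => hcomp η (hfin.mem_toFinset.1 h)) ?_ NoetherianSpace.finite_irreducibleComponents
    exact fun a _ b _ h => (inseparable_iff_closure_eq.2 h).eq

include k in
/-- The restriction of an ample module to a closed curve has positive degree. -/
theorem cdeg_pos {M : X.Modules} (hM : CohB1.IsAmple M) (hdim : topologicalKrullDim X ≤ 1)
    (J : X.IdealSheafData) [AlgebraicGeometry.IsReduced J.subscheme] [ConnectedSpace J.subscheme]
    (hJ : topologicalKrullDim J.subscheme = 1) : 0 < cdeg k M J := by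
  classical
  letI : J.subscheme.Over (Spec (CommRingCat.of k)) := ⟨J.subschemeι ≫ (X ↘ Spec (CommRingCat.of k))⟩
  haveI : IsProper (J.subscheme ↘ Spec (CommRingCat.of k)) :=
    inferInstanceAs (IsProper (J.subschemeι ≫ _))
  let Y := J.subscheme
  haveI := EulerChar.isNoetherian k (X := Y)
  have hA : CohB1.IsAmple ((Scheme.Modules.pullback J.subschemeι).obj M) :=
    Wt.AmpleThick.isAmple_pullback J.subschemeι hM
  have hall := (S7642.result k Y hJ.le _ hA.1).1 hA
  have hfinc := (NoetherianSpace.finite_irreducibleComponents (α := Y)).to_subtype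
  cases nonempty_fintype (irreducibleComponents (Y : Type u))
  show 0 < Curv2.deg k Y ((Scheme.Modules.pullback J.subschemeι).obj M) 1
  rw [EulerChar.deg_eq_sum k hJ.le (ProjTwist.isFinLocFreeOfRank_one hA.1), finsum_eq_sum_of_fintype]
  have hgen : ∀ Z : irreducibleComponents (Y : Type u), IsGenericPoint Z.2.1.genericPoint Z.1 := fun Z => by
    have h := Z.2.1.isGenericPoint_genericPoint_closure
    rwa [(isClosed_of_mem_irreducibleComponents Z.1 Z.2).closure_eq] at h
  have hfld := fun Z : irreducibleComponents (Y : Type u) =>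
    isField_of_maximal (EulerChar.genericPoint_maximal Z.2 (hgen Z))
  have hZ1 : ∀ Z : irreducibleComponents (Y : Type u), topologicalKrullDim (Z.1 : Set Y) = 1 := fun Z => by
    refine S7642.eq_one_of_le ((topologicalKrullDim_subspace_le Y Z.1).trans hJ.le) fun h => ?_
    exact not_closed_of_field hJ (hfld Z) (EulerChar.isClosed_of_subset_support k
      (EulerChar.isCoh_quotMod k (IntMult.ptIdeal Z.2.1.genericPoint))
      ((TopDimLib.topDim_le_of_subset ((EulerChar.support_quotMod_subset _).trans
        ((CohDev.coe_support_ptIdeal _).trans (hgen Z).def).le)).trans h)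
      (A := {Z.2.1.genericPoint}) (Set.singleton_subset_iff.2
        (not_subsingleton_iff_nontrivial.2 (nontrivial_stalk_quotMod _
          ((CohDev.coe_support_ptIdeal _).ge (subset_closure rfl)))))).1
  refine Finset.sum_pos (fun Z _ => ?_) ?_
  · rw [if_pos (hZ1 Z)]
    refine mul_pos ?_ (hall Z.1 Z.2 (hZ1 Z))
    letI := (hfld Z).toField
    rw [Module.length_eq_one]
    exact one_pos
  · exact ⟨⟨irreducibleComponent (Classical.arbitrary Y), irreducibleComponent_mem_irreducibleComponents _⟩,
      Finset.mem_univ _⟩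

end Groth.Agent.CurveRed
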