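import Groth.Agent.CurveRed.GlobGen

/-!
# Splitting along a clopen decomposition of a reduced subcurve
-/

universe u

open CategoryTheory CategoryTheory.Limits AlgebraicGeometry TopologicalSpace
open Groth.Agent.Props.GenLocus Groth.Agent.PullStalk.Sky Groth.Agent.PullStalk.Exact

set_option linter.style.haveILetI false
set_option linter.unusedSectionVars false
set_option synthInstance.maxHeartbeats 200000
set_option maxHeartbeats 1000000

noncomputable section

namespace Groth.Agent.CurveRed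

variable {X : Scheme.{u}}

theorem stalkLin_id {M : X.Modules} (z : X) (t : M.presheaf.stalk z) : stalkLin (𝟙 M) z t = t := by
  obtain ⟨W, hW, m, rfl⟩ := exists_germM_eq M z t
  rw [stalkLin_germ]; rfl

theorem stalkLin_zero {M N : X.Modules} (z : X) (t : M.presheaf.stalk z) :
    stalkLin (0 : M ⟶ N) z t = 0 := by
  obtain ⟨W, hW, m, rfl⟩ := exists_germM_eq M z t
  exact germM_app_zero hW rfl

theorem stalkLin_add {M N : X.Modules} (f g : M ⟶ N) (z : X) (t : M.presheaf.stalk z) :
    stalkLin (f + g) z t = stalkLin f z t + stalkLin g z t := by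
  obtain ⟨W, hW, m, rfl⟩ := exists_germM_eq M z t
  rw [stalkLin_germ, stalkLin_germ, stalkLin_germ, ← map_add]
  rfl

theorem hom_eq_zero_of_stalk {M N : X.Modules} (f : M ⟶ N) (h : ∀ z t, stalkLin f z t = 0) : f = 0 := by
  ext U m
  refine TopCat.Presheaf.section_ext (⟨N.presheaf, N.isSheaf⟩ : TopCat.Sheaf Ab X) U _ _ fun z hz => ?_
  exact ((stalkLin_germ f U z hz m).symm.trans (h z _)).trans (map_zero _).symm

/-- A decomposition of the restriction to a disconnected reduced subcurve. -/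
theorem exists_split [IsNoetherian X] [AlgebraicGeometry.IsReduced X] {L : X.Modules}
    (hL : PicF.IsInvertible L) {T : Finset X} (hT : ∀ η ∈ T, IsField (X.presheaf.stalk η))
    {B : Set (subIdeal T).subscheme} (hB : IsClopen B) (hne : B.Nonempty) (huniv : B ≠ Set.univ) :
    ∃ (T₁ T₂ : Finset X) (e₁ e₂ : restr L (subIdeal T) ⟶ restr L (subIdeal T)), T₁ ⊂ T ∧ T₂ ⊂ T ∧
      (∀ η ∈ T, η ∈ T₁ ∨ η ∈ T₂) ∧
      (∀ z, z ∈ ((subIdeal T₁).support : Set X) → z ∈ ((subIdeal T₂).support : Set X) → False) ∧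
      e₁ + e₂ = 𝟙 _ ∧
      (∀ z, z ∉ ((subIdeal T₁).support : Set X) → ∀ t, stalkLin e₁ z t = 0) ∧
      (∀ z, z ∉ ((subIdeal T₂).support : Set X) → ∀ t, stalkLin e₂ z t = 0) := by
  classical
  let ι := (subIdeal T).subschemeι
  have hG : Thin (restr L (subIdeal T)) := thin_restr hL hT
  have hrange : Set.range ι = ((subIdeal T).support : Set X) := Scheme.IdealSheafData.range_subschemeι _
  have hBc : IsClosed (ι '' B) := ι.isClosedEmbedding.isClosedMap _ hB.1
  have hBc' : IsClosed (ι '' Bᶜ) := ι.isClosedEmbedding.isClosedMap _ hB.compl.1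
  let T₁ := T.filter fun η => η ∈ ι '' B
  let T₂ := T.filter fun η => η ∈ ι '' Bᶜ
  have hdisj : ∀ η, η ∈ ι '' B → η ∈ ι '' Bᶜ → False := by
    rintro η ⟨a, ha, rfl⟩ ⟨b, hb, e⟩
    exact hb (ι.isClosedEmbedding.injective e ▸ ha)
  have hcover : ∀ η ∈ T, η ∈ ι '' B ∨ η ∈ ι '' Bᶜ := by
    intro η hη
    obtain ⟨z, hz⟩ : η ∈ Set.range ι := hrange ▸ mem_support_subIdeal.2 ⟨η, hη, specializes_rfl⟩
    by_cases hzB : z ∈ B
    · exact Or.inl ⟨z, hzB, hz⟩
    · exact Or.inr ⟨z, hzB, hz⟩
  have hgen : ∀ b : (subIdeal T).subscheme, ∃ η ∈ T, η ⤳ ι b := fun b =>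
    mem_support_subIdeal.1 (hrange ▸ Set.mem_range_self b : ι b ∈ ((subIdeal T).support : Set X))
  have hT₁ : T₁ ⊂ T := by
    refine Finset.filter_ssubset.2 ?_
    obtain ⟨b, hb⟩ := (Set.ne_univ_iff_exists_notMem _).1 huniv
    obtain ⟨η, hη, hηb⟩ := hgen b
    exact ⟨η, hη, fun h1 => hdisj (ι b) (hηb.mem_closed hBc h1) ⟨b, hb, rfl⟩⟩
  have hT₂ : T₂ ⊂ T := by
    refine Finset.filter_ssubset.2 ?_
    obtain ⟨b, hb⟩ := hne
    obtain ⟨η, hη, hηb⟩ := hgen b
    exact ⟨η, hη, fun h1 => hdisj (ι b) ⟨b, hb, rfl⟩ (hηb.mem_closed hBc' h1)⟩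
  have hs₁ : ∀ y, y ∈ ((subIdeal T₁).support : Set X) → y ∈ ι '' B := fun y hy => by
    obtain ⟨η, hη, hηy⟩ := mem_support_subIdeal.1 hy
    exact hηy.mem_closed hBc (Finset.mem_filter.1 hη).2
  have hs₂ : ∀ y, y ∈ ((subIdeal T₂).support : Set X) → y ∈ ι '' Bᶜ := fun y hy => by
    obtain ⟨η, hη, hηy⟩ := mem_support_subIdeal.1 hy
    exact hηy.mem_closed hBc' (Finset.mem_filter.1 hη).2
  -- restriction maps
  have hres : ∀ T' : Finset X, T' ⊆ T → ∃ r : restr L (subIdeal T) ⟶ restr L (subIdeal T'), Epi r := by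
    intro T' hT'
    have hO := PicLoc.isInvertible_structureModule X
    have hQO : Thin (restr (Coh.structureModule X) (subIdeal T')) :=
      thin_restr hO fun η hη => hT η (hT' hη)
    let o : restr (Coh.structureModule X) (subIdeal T') ≅ ClSub.quotMod (subIdeal T') := ProjTwist.oneTens _
    have hQ' : Thin (ClSub.quotMod (subIdeal T')) := hQO.mono o.inv
    have hS := EulerChar.shortExact_ideal (subIdeal T)
    haveI := hS.epi_g
    have hw : ClSub.idealModι (subIdeal T) ≫ ClSub.toSubscheme (subIdeal T') = 0 :=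
      hQ'.hom_eq_zero _ fun η hη a => by
        rw [CohDev.stalkLin_comp_apply]
        by_cases hηT : η ∈ T'
        · rw [stalk_idealModι_eq_zero _ hη ((mem_iff_mem_support hη).2 (hT' hηT)) a, map_zero]
        · haveI : Subsingleton ((ClSub.quotMod (subIdeal T')).presheaf.stalk η) := by
            by_contra hn
            exact hηT ((mem_iff_mem_support hη).1 (EulerChar.support_quotMod_subset _ hn))
          exact Subsingleton.elim _ _
    refine ⟨(DCoh.tensorBi.obj L).map (hS.exact.desc (ClSub.toSubscheme (subIdeal T')) hw), ?_⟩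
    have e : toRestr L (subIdeal T) ≫ (DCoh.tensorBi.obj L).map
        (hS.exact.desc (ClSub.toSubscheme (subIdeal T')) hw) = toRestr L (subIdeal T') := by
      show (DCoh.tensorBi.obj L).map _ ≫ _ = _
      rw [← Functor.map_comp, hS.exact.g_desc]
    haveI : Epi (toRestr L (subIdeal T')) := (shortExact_restr hL _).epi_g
    exact epi_of_epi_fac e
  obtain ⟨r₁, hr₁⟩ := hres T₁ hT₁.subset
  obtain ⟨r₂, hr₂⟩ := hres T₂ (Finset.filter_subset _ _)
  let φ := biprod.lift r₁ r₂
  have hφm : Mono φ := by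
    refine Preadditive.mono_of_kernel_zero (hG.hom_eq_zero _ fun η hη a => ?_)
    have h0 : stalkLin φ η (stalkLin (kernel.ι φ) η a) = 0 := by
      rw [← CohDev.stalkLin_comp_apply, kernel.condition, stalkLin_zero]
    have h1 : stalkLin r₁ η (stalkLin (kernel.ι φ) η a) = 0 := by
      rw [← biprod.lift_fst r₁ r₂, CohDev.stalkLin_comp_apply, h0, map_zero]
    have h2 : stalkLin r₂ η (stalkLin (kernel.ι φ) η a) = 0 := by
      rw [← biprod.lift_snd r₁ r₂, CohDev.stalkLin_comp_apply, h0, map_zero]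
    by_cases hηT : η ∈ T
    · have key : ∀ (T' : Finset X) (r : restr L (subIdeal T) ⟶ restr L (subIdeal T')), Epi r → η ∈ T' →
          ∀ u, stalkLin r η u = 0 → u = 0 := by
        intro T' r hr hη' u hu
        by_contra hu0
        obtain ⟨v, hv⟩ := @exists_ne _ (nontrivial_restr hL _ ((mem_iff_mem_support hη).2 hη')) 0
        obtain ⟨v', rfl⟩ := stalk_surjective r η v
        obtain ⟨c, rfl⟩ := hG.line η hη u v' hu0
        exact hv (by rw [map_smul, hu, smul_zero])
      rcases hcover η hηT with h | h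
      · exact key T₁ r₁ hr₁ (Finset.mem_filter.2 ⟨hηT, h⟩) _ h1
      · exact key T₂ r₂ hr₂ (Finset.mem_filter.2 ⟨hηT, h⟩) _ h2
    · haveI := subsingleton_restr L (fun e => hηT ((mem_iff_mem_support (T := T) hη).1 e))
      exact @Subsingleton.elim _ this _ _
  haveI := hφm
  have hsplit : ∀ (z : X) (s : (restr L (subIdeal T₁) ⊞ restr L (subIdeal T₂)).presheaf.stalk z),
      s = stalkLin biprod.inl z (stalkLin biprod.fst z s) + stalkLin biprod.inr z (stalkLin biprod.snd z s) :=
    fun z s => by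
      rw [← CohDev.stalkLin_comp_apply, ← CohDev.stalkLin_comp_apply, ← stalkLin_add, biprod.total,
        stalkLin_id]
  have hφe : Epi φ := by
    refine Preadditive.epi_of_isZero_cokernel φ (CohDev.isZero_of_support_eq_empty
      (Set.eq_empty_iff_forall_notMem.2 fun z => CohDev.not_mem_support_cokernel φ fun t => ?_))
    by_cases hz : z ∈ ι '' B
    · haveI := subsingleton_restr L (fun e => hdisj z hz (hs₂ z e))
      obtain ⟨a, ha⟩ := stalk_surjective r₁ z (stalkLin biprod.fst z t)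
      refine ⟨a, ?_⟩
      have e1 : stalkLin biprod.fst z (stalkLin φ z a) = stalkLin biprod.fst z t := by
        rw [← CohDev.stalkLin_comp_apply, biprod.lift_fst, ha]
      rw [hsplit z t, hsplit z (stalkLin φ z a), e1]
      exact congrArg (stalkLin biprod.inl z (stalkLin biprod.fst z t) + stalkLin biprod.inr z ·)
        (@Subsingleton.elim _ this _ _)
    · haveI := subsingleton_restr L (fun e => hz (hs₁ z e))
      obtain ⟨a, ha⟩ := stalk_surjective r₂ z (stalkLin biprod.snd z t)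
      refine ⟨a, ?_⟩
      have e1 : stalkLin biprod.snd z (stalkLin φ z a) = stalkLin biprod.snd z t := by
        rw [← CohDev.stalkLin_comp_apply, biprod.lift_snd, ha]
      rw [hsplit z t, hsplit z (stalkLin φ z a), e1]
      exact congrArg (stalkLin biprod.inl z · + stalkLin biprod.inr z (stalkLin biprod.snd z t))
        (@Subsingleton.elim _ this _ _)
  haveI := hφe
  haveI := isIso_of_mono_of_epi φ
  refine ⟨T₁, T₂, r₁ ≫ biprod.inl ≫ inv φ, r₂ ≫ biprod.inr ≫ inv φ, hT₁, hT₂, fun η hη => ?_, fun z h h' =>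
    hdisj z (hs₁ z h) (hs₂ z h'), ?_, fun z hz t => ?_, fun z hz t => ?_⟩
  · exact (hcover η hη).imp (fun h => Finset.mem_filter.2 ⟨hη, h⟩) fun h => Finset.mem_filter.2 ⟨hη, h⟩
  · have : φ = r₁ ≫ biprod.inl + r₂ ≫ biprod.inr := biprod.lift_eq
    rw [← Category.assoc, ← Category.assoc, ← Preadditive.add_comp, ← this, IsIso.hom_inv_id]
  · haveI := subsingleton_restr L hz
    rw [CohDev.stalkLin_comp_apply, @Subsingleton.elim _ this (stalkLin r₁ z t) 0, map_zero]
  · haveI := subsingleton_restr L hz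
    rw [CohDev.stalkLin_comp_apply, @Subsingleton.elim _ this (stalkLin r₂ z t) 0, map_zero]

end Groth.Agent.CurveRed
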