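import Groth.Agent.CurveRed.Bound
import Groth.Agent.RedSub.Basic
import Groth.Agent.EulerChar.Restrict

/-!
# Reduced subcurves spanned by generic points
-/

universe u

open CategoryTheory CategoryTheory.Limits AlgebraicGeometry TopologicalSpace
open Groth.Agent.Props.GenLocus Groth.Agent.PullStalk.Sky Groth.Agent.PullStalk.Exact
open scoped TensorProduct

set_option linter.style.haveILetI false
set_option linter.unusedSectionVars false
set_option synthInstance.maxHeartbeats 200000
set_option maxHeartbeats 1000000

noncomputable section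

namespace Groth.Agent.CurveRed

variable {X : Scheme.{u}}

/-- The closed set spanned by finitely many points. -/
def cset (T : Finset X) : Closeds X :=
  ⟨⋃ η ∈ T, closure {η}, T.finite_toSet.isClosed_biUnion fun _ _ => isClosed_closure⟩

/-- Its reduced ideal. -/
def subIdeal (T : Finset X) : X.IdealSheafData := Scheme.IdealSheafData.vanishingIdeal (cset T)

theorem mem_support_subIdeal {T : Finset X} {x : X} :
    x ∈ ((subIdeal T).support : Set X) ↔ ∃ η ∈ T, η ⤳ x := by
  rw [subIdeal, Scheme.IdealSheafData.coe_support_vanishingIdeal]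
  simp [cset, specializes_iff_mem_closure]

theorem mem_iff_mem_support {T : Finset X} {η : X} (hη : IsField (X.presheaf.stalk η)) :
    η ∈ ((subIdeal T).support : Set X) ↔ η ∈ T := by
  rw [mem_support_subIdeal]
  exact ⟨fun ⟨ξ, hξ, h⟩ => eq_of_specializes_field hη h ▸ hξ, fun h => ⟨η, h, specializes_rfl⟩⟩

/-- The image of a point with field local ring. -/
theorem field_image {T : Finset X} (hT : ∀ η ∈ T, IsField (X.presheaf.stalk η))
    {y : (subIdeal T).subscheme} (hy : IsField ((subIdeal T).subscheme.presheaf.stalk y)) :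
    (subIdeal T).subschemeι y ∈ T ∧ IsField (X.presheaf.stalk ((subIdeal T).subschemeι y)) := by
  have hr : (subIdeal T).subschemeι y ∈ ((subIdeal T).support : Set X) := by
    rw [← Scheme.IdealSheafData.range_subschemeι]; exact ⟨y, rfl⟩
  obtain ⟨η, hη, hsp⟩ := mem_support_subIdeal.1 hr
  obtain ⟨y', hy'⟩ : η ∈ Set.range (subIdeal T).subschemeι := by
    rw [Scheme.IdealSheafData.range_subschemeι]
    exact mem_support_subIdeal.2 ⟨η, hη, specializes_rfl⟩
  rw [← hy'] at hsp
  have := eq_of_specializes_field hy ((subIdeal T).subschemeι.isEmbedding.isInducing.specializes_iff.1 hsp)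
  subst this
  rw [hy']
  exact ⟨hη, hT η hη⟩

theorem nontrivial_stalk_quotMod (J : X.IdealSheafData) {x : X} (hx : x ∈ (J.support : Set X)) :
    Nontrivial ((ClSub.quotMod J).presheaf.stalk x) := by
  rw [← Scheme.IdealSheafData.range_subschemeι] at hx
  obtain ⟨z, rfl⟩ := hx
  rw [← not_subsingleton_iff_nontrivial]
  intro hsub
  let one : Γ(ClSub.quotMod J, ⊤) := (1 : Γ(J.subscheme, J.subschemeι ⁻¹ᵁ ⊤))
  obtain ⟨W, hzW, i₁, i₂, he⟩ := (ClSub.quotMod J).presheaf.germ_eq (J.subschemeι z) (U := ⊤) (V := ⊤) trivial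
    trivial one 0 (@Subsingleton.elim _ hsub _ _)
  have h1 : J.subscheme.presheaf.map ((Opens.map J.subschemeι.base).map i₁).op
      (1 : Γ(J.subscheme, J.subschemeι ⁻¹ᵁ ⊤)) = 0 := he.trans (map_zero ((ClSub.quotMod J).presheaf.map i₂.op).hom)
  rw [map_one] at h1
  have h2 := congrArg (J.subscheme.presheaf.germ (J.subschemeι ⁻¹ᵁ W) z hzW).hom h1
  simp at h2

/-- The ideal vanishes at the generic points of the subscheme. -/
theorem stalk_idealModι_eq_zero (J : X.IdealSheafData) {η : X} (hη : IsField (X.presheaf.stalk η))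
    (hJ : η ∈ (J.support : Set X)) (a : (ClSub.idealMod J).presheaf.stalk η) :
    stalkLin (ClSub.idealModι J) η a = 0 := by
  obtain ⟨-, hex, hsur⟩ := stalk_exact (EulerChar.shortExact_ideal J) η
  obtain ⟨eO⟩ := EulerChar.stalk_ofRank
    (ProjTwist.isFinLocFreeOfRank_one (PicLoc.isInvertible_structureModule X)) η
  letI := hη.toField
  by_contra ha
  obtain ⟨t, ht⟩ := @exists_ne _ (nontrivial_stalk_quotMod J hJ) 0
  obtain ⟨b, rfl⟩ := hsur t
  have h0 : stalkLin (ClSub.toSubscheme J) η (stalkLin (ClSub.idealModι J) η a) = 0 :=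
    (hex _).2 ⟨a, rfl⟩
  obtain ⟨n, hn⟩ := eO.surjective (stalkLin (ClSub.idealModι J) η a)
  obtain ⟨m, hm⟩ := eO.surjective b
  have hn0 : n 0 ≠ 0 := fun h => ha (by
    rw [← hn, show n = 0 from funext fun i => by rw [Subsingleton.elim i 0]; exact h, map_zero])
  refine ht ?_
  have hb : b = (m 0 * (n 0)⁻¹) • stalkLin (ClSub.idealModι J) η a := by
    rw [← hn, ← hm]
    refine Eq.trans (congrArg eO ?_) (eO.map_smul (m 0 * (n 0)⁻¹) n)
    funext i
    rw [Pi.smul_apply, Subsingleton.elim i 0, smul_eq_mul, mul_assoc, inv_mul_cancel₀ hn0, mul_one]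
  show stalkLin (ClSub.toSubscheme J) η b = 0
  rw [hb, map_smul, h0, smul_zero]

theorem surjective_stalk_idealModι (J : X.IdealSheafData) {η : X} (hJ : η ∉ (J.support : Set X)) :
    Function.Surjective (stalkLin (ClSub.idealModι J) η) := by
  intro a
  haveI : Subsingleton ((ClSub.quotMod J).presheaf.stalk η) := by
    by_contra hn
    exact hJ (EulerChar.support_quotMod_subset J hn)
  exact ((stalk_exact (EulerChar.shortExact_ideal J) η).2.1 a).1 (Subsingleton.elim _ _)

/-- The restriction of an invertible module to a closed subscheme, on the ambient scheme. -/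
abbrev restr (L : X.Modules) (J : X.IdealSheafData) : X.Modules := CohDev.tens L (ClSub.quotMod J)

/-- The restriction map. -/
abbrev toRestr (L : X.Modules) (J : X.IdealSheafData) :
    CohDev.tens L (Coh.structureModule X) ⟶ restr L J :=
  (DCoh.tensorBi.obj L).map (ClSub.toSubscheme J)

theorem shortExact_restr {L : X.Modules} (hL : PicF.IsInvertible L) (J : X.IdealSheafData) :
    ((ShortComplex.mk (ClSub.idealModι J) (ClSub.toSubscheme J) (kernel.condition _)).map
      (DCoh.tensorBi.obj L)).ShortExact :=
  CohDev.tens_shortExact (ProjTwist.isFinLocFreeOfRank_one hL) (EulerChar.shortExact_ideal J)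

theorem isTorsionFree_of_invertible {L : X.Modules} (hL : PicF.IsInvertible L) : TorSh.IsTorsionFree L :=
  fun x => by
    obtain ⟨e⟩ := EulerChar.stalk_ofRank (ProjTwist.isFinLocFreeOfRank_one hL) x
    exact Function.Injective.moduleIsTorsionFree e.symm e.symm.injective e.symm.map_smul

/-- An invertible module on a reduced scheme is thin. -/
theorem thin_invertible [IsLocallyNoetherian X] [AlgebraicGeometry.IsReduced X] {L : X.Modules}
    (hL : PicF.IsInvertible L) : Thin L where
  line η hη u v hu := by
    obtain ⟨e⟩ := EulerChar.stalk_ofRank (ProjTwist.isFinLocFreeOfRank_one hL) η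
    letI := hη.toField
    obtain ⟨n, rfl⟩ := e.surjective u
    obtain ⟨m, rfl⟩ := e.surjective v
    have hn0 : n 0 ≠ 0 := fun h => hu (by
      rw [show n = 0 from funext fun i => by rw [Subsingleton.elim i 0]; exact h, map_zero])
    refine ⟨m 0 * (n 0)⁻¹, (e.map_smul (m 0 * (n 0)⁻¹) n).symm.trans (congrArg e (funext fun i => ?_))⟩
    rw [Pi.smul_apply, Subsingleton.elim i 0, smul_eq_mul, mul_assoc, inv_mul_cancel₀ hn0, mul_one]
  sep U s hs := by
    haveI : L.IsQuasicoherent := (VBLib.isCoh_of_ofRank (ProjTwist.isFinLocFreeOfRank_one hL)).1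
    exact DecCurve.section_eq_zero_of_generic L (isTorsionFree_of_invertible hL) s hs

theorem thin_restr [IsLocallyNoetherian X] [AlgebraicGeometry.IsReduced X] {L : X.Modules}
    (hL : PicF.IsInvertible L) {T : Finset X} (hT : ∀ η ∈ T, IsField (X.presheaf.stalk η)) :
    Thin (restr L (subIdeal T)) where
  line η hη u v hu := by
    haveI : Epi (toRestr L (subIdeal T)) := (shortExact_restr hL (subIdeal T)).epi_g
    obtain ⟨a, rfl⟩ := stalk_surjective (toRestr L (subIdeal T)) η u
    obtain ⟨b, rfl⟩ := stalk_surjective (toRestr L (subIdeal T)) η v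
    obtain ⟨c, hc⟩ := (thin_invertible (AmpleLib.isInvertible_tensorMod hL
      (PicLoc.isInvertible_structureModule X))).line η hη a b (fun h => hu ((congrArg _ h).trans (map_zero _)))
    exact ⟨c, (map_smul _ _ _).symm.trans (congrArg _ hc)⟩
  sep U s hs := by
    let e := EulerChar.tensQuotIso (subIdeal T).subschemeι L
    haveI : AlgebraicGeometry.IsReduced (subIdeal T).subscheme := RedSub.isReduced_vanishingIdeal _
    haveI : IsLocallyNoetherian (subIdeal T).subscheme :=
      LocallyOfFiniteType.isLocallyNoetherian (subIdeal T).subschemeι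
    have hM := PicCl.isInvertible_pullback (subIdeal T).subschemeι hL
    refine QCoh.app_injective_of_mono e.hom U (Eq.trans ?_ (map_zero (e.hom.app U).hom).symm)
    refine (thin_invertible hM).sep ((subIdeal T).subschemeι ⁻¹ᵁ U) (e.hom.app U s) fun y hy hf => ?_
    have hη := (field_image hT hf).2
    have h0 : germM _ U ((subIdeal T).subschemeι y) hy (e.hom.app U s) = 0 := by
      rw [← stalkLin_germ, hs _ hy hη, map_zero]
    obtain ⟨W, hW, i₁, i₂, he⟩ := ((Scheme.Modules.pushforward (subIdeal T).subschemeι).obj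
        ((Scheme.Modules.pullback (subIdeal T).subschemeι).obj L)).presheaf.germ_eq
      ((subIdeal T).subschemeι y) hy hy (e.hom.app U s) 0 (h0.trans (map_zero _).symm)
    let M := (Scheme.Modules.pullback (subIdeal T).subschemeι).obj L
    have he' : M.presheaf.map ((Opens.map (subIdeal T).subschemeι.base).map i₁).op (e.hom.app U s) = 0 :=
      he.trans (map_zero _)
    refine (M.presheaf.germ_res_apply ((Opens.map (subIdeal T).subschemeι.base).map i₁) y hW _).symm.trans ?_
    rw [he']
    exact map_zero _

section coh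

variable (k : Type u) [Field k] [X.Over (Spec (CommRingCat.of k))]
  [IsProper (X ↘ Spec (CommRingCat.of k))] [AlgebraicGeometry.IsReduced X]
  (hdim : topologicalKrullDim X ≤ 1)

include k in
theorem isCoh_idealMod (J : X.IdealSheafData) : Coh.IsCoh (ClSub.idealMod J) :=
  haveI := EulerChar.isNoetherian k (X := X)
  CohDev.isCoh_kernel (ClSub.toSubscheme J)
    (VBLib.isCoh_of_ofRank (ProjTwist.isFinLocFreeOfRank_one (PicLoc.isInvertible_structureModule X)))
    (QCoh.isQuasicoherent_pushforward J.subschemeι _)

include hdim in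
/-- The genus of a closed subscheme and the range of its ideal on `H¹`. -/
theorem h1_quotMod_add (J : X.IdealSheafData) :
    Module.finrank k (Coh.HH X (ClSub.quotMod J) 1) + Module.finrank k (rng k (ClSub.idealModι J)) =
      Curv2.genus k X := by
  haveI := EulerChar.isNoetherian k (X := X)
  haveI := EulerChar.finite_HH k (Coh.structureModule X)
    (VBLib.isCoh_of_ofRank (ProjTwist.isFinLocFreeOfRank_one (PicLoc.isInvertible_structureModule X))) 1
  let g := CohLin.overLin k (CohLin.hMap (ClSub.toSubscheme J) 1)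
  have hg : LinearMap.range g = ⊤ := LinearMap.range_eq_top.2 fun y => by
    haveI := subsingleton_HH_two k hdim (ClSub.idealMod J)
    exact CohLin.exists_hMap_g_eq (EulerChar.shortExact_ideal J) y (Subsingleton.elim _ _)
  have hk : LinearMap.ker g = rng k (ClSub.idealModι J) := by
    ext x
    constructor
    · intro hx
      obtain ⟨y, hy⟩ := CohLin.exists_hMap_f_eq (EulerChar.shortExact_ideal J) x hx
      exact ⟨y, hy⟩
    · rintro ⟨y, rfl⟩
      exact CohLin.hMap_g_hMap_f (S := ShortComplex.mk (ClSub.idealModι J) (ClSub.toSubscheme J)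
        (kernel.condition _)) y
  have h := g.finrank_range_add_finrank_ker
  rw [hg, finrank_top, hk] at h
  exact h

end coh

end Groth.Agent.CurveRed
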